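import Cfsg.Agent.H294.PU.Gen_m3
import Cfsg.Agent.H775.PU.Bound_m3
import Mathlib
import Cfsg.Agent.Solvable.SZ
import Cfsg.Agent.H802.FusBasic
import Cfsg.Agent.H681.PU.Card
import Cfsg.Agent.S0278
import Cfsg.Agent.S0280
import Cfsg.Agent.FastGrp
import Cfsg.Agent.Prune
set_option linter.all false

section
prune_inst 0x7ff0bcf98fb8afdfdfff7e7ffed9dffc39d4dfffbfdffd0bfee0ebffef9f230639e52bad1de058ff0fd7629e30b87853f97eceffee6bdc7ffffd5ff45ffbee0fe5f7bd8871168c340fbc0fff03f07f8e7f3fffffffffffffffffffffffffffbeffffffffffff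

-- part: H767/PU/Form
section
set_option linter.all false
open scoped Cfsg.Agent.FastGrp

/-!
# S5258: formulas in `UG K` (helper767)

Coordinates of conjugates and commutators, and the membership lemmas for the standard subgroups.
-/

set_option autoImplicit false

namespace Cfsg.Agent.H767.PU

open Cfsg Cfsg.FusionSystem Cfsg.Agent.H756.PU

universe u

variable {K : Type u} [Field K] [StarRing K]

/-! ### membership -/

theorem mem_ZS {g : UG K} : g ∈ ZS K ↔ g.r = 0 ∧ g.u1 = 0 ∧ g.u2 = 0 ∧ g.b = 0 ∧ g.c = 0 := Iff.rfl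
theorem mem_Z2 {g : UG K} : g ∈ Z2 K ↔ g.r = 0 ∧ g.u1 = 0 ∧ g.u2 = 0 ∧ g.c = 0 := Iff.rfl
theorem mem_VV {g : UG K} : g ∈ VV K ↔ g.r = 0 ∧ g.u1 = 0 ∧ g.u2 = 0 := Iff.rfl
theorem mem_YY {g : UG K} : g ∈ YY K ↔ g.r = 0 ∧ g.u2 = 0 := Iff.rfl
theorem mem_Q2 {g : UG K} : g ∈ Q2 K ↔ g.r = 0 := Iff.rfl
theorem mem_Q1 {g : UG K} : g ∈ Q1 K ↔ g.u2 = 0 ∧ g.c = 0 := Iff.rfl
theorem mem_QV {g : UG K} : g ∈ QV K ↔ g.u2 = 0 := Iff.rfl
theorem mem_Y1 {g : UG K} : g ∈ Y1 K ↔ g.r = 0 ∧ g.u2 = 0 ∧ g.c = 0 := by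
  constructor
  · rintro ⟨⟨h1, h2⟩, h3⟩
    exact ⟨h3, h1, h2⟩
  · rintro ⟨h1, h2, h3⟩
    exact ⟨⟨h2, h3⟩, h1⟩

theorem ZS_le_Z2 : ZS K ≤ Z2 K := fun _ h => ⟨h.1, h.2.1, h.2.2.1, h.2.2.2.2⟩
theorem Z2_le_VV : Z2 K ≤ VV K := fun _ h => ⟨h.1, h.2.1, h.2.2.1⟩
theorem YY_le_Q2 : YY K ≤ Q2 K := fun _ h => h.1
theorem YY_le_QV : YY K ≤ QV K := fun _ h => h.2
theorem Z2_le_Y1 : Z2 K ≤ Y1 K := fun _ h => ⟨⟨h.2.2.1, h.2.2.2⟩, h.1⟩
theorem Z2_le_Q1 : Z2 K ≤ Q1 K := fun _ h => ⟨h.2.2.1, h.2.2.2⟩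
theorem VV_le_Q2 : VV K ≤ Q2 K := fun _ h => h.1

/-! ### conjugates -/

section conj
variable (x y : UG K)

theorem conj_aux {x y z : UG K} (h : z * x = x * y) : z.r = y.r ∧ z.u2 = y.u2 ∧
    z.u1 = y.u1 + x.r * y.u2 - y.r * x.u2 ∧
    z.c = y.c + y.u2 * star x.u2 - x.u2 * star y.u2 ∧
    z.b = y.b + x.r * y.c - y.r * x.c - x.u1 * star y.u2 + (y.u1 + x.r * y.u2 - y.r * x.u2) * star x.u2 ∧
    z.a = y.a + x.r * y.d + star x.r * y.b + x.r * star x.r * y.c
      - x.u1 * (star y.u1 + star x.r * star y.u2) - y.r * x.d - star y.r * x.b - y.r * star y.r * x.c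
      + (y.u1 + x.r * y.u2 - y.r * x.u2) * (star x.u1 + star y.r * star x.u2) := by
  have hr := congrArg UG.r h
  have h2 := congrArg UG.u2 h
  have h1 := congrArg UG.u1 h
  have hc := congrArg UG.c h
  have hb := congrArg UG.b h
  have ha := congrArg UG.a h
  simp only [UG.mul_r, UG.mul_u1, UG.mul_u2, UG.mul_a, UG.mul_b, UG.mul_c] at hr h1 h2 ha hb hc
  have er : z.r = y.r := by linear_combination hr
  have e2 : z.u2 = y.u2 := by linear_combination h2
  rw [er] at h1 hb ha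
  rw [e2] at hc
  have e1 : z.u1 = y.u1 + x.r * y.u2 - y.r * x.u2 := by linear_combination h1
  rw [e1] at hb ha
  refine ⟨er, e2, e1, ?_, ?_, ?_⟩
  · linear_combination hc
  · linear_combination hb
  · linear_combination ha

theorem conj_r : (x * y * x⁻¹).r = y.r := (conj_aux (inv_mul_cancel_right (x * y) x)).1
theorem conj_c : (x * y * x⁻¹).c = y.c + y.u2 * star x.u2 - x.u2 * star y.u2 :=
  (conj_aux (inv_mul_cancel_right (x * y) x)).2.2.2.1
theorem conj_b : (x * y * x⁻¹).b = y.b + x.r * y.c - y.r * x.c - x.u1 * star y.u2 +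
    (y.u1 + x.r * y.u2 - y.r * x.u2) * star x.u2 :=
  (conj_aux (inv_mul_cancel_right (x * y) x)).2.2.2.2.1
end conj

/-! ### commutators -/

section comm
variable (x y : UG K)

theorem comm_aux {x y z : UG K} (h : z * (y * x) = x * y) : z.r = 0 ∧ z.u2 = 0 ∧
    z.u1 = x.r * y.u2 - y.r * x.u2 ∧
    z.c = y.u2 * star x.u2 - x.u2 * star y.u2 ∧
    z.b = x.r * y.c - y.r * x.c - x.u1 * star y.u2 + y.u1 * star x.u2 +
      (x.r * y.u2 - y.r * x.u2) * (star x.u2 + star y.u2) ∧
    z.a = x.r * y.d - y.r * x.d + star x.r * y.b - star y.r * x.b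
      + x.r * star x.r * y.c - y.r * star y.r * x.c
      - x.u1 * (star y.u1 + star x.r * star y.u2) + y.u1 * (star x.u1 + star y.r * star x.u2)
      + (x.r * y.u2 - y.r * x.u2) * (star x.u1 + star y.u1 + star y.r * star x.u2) := by
  have hr := congrArg UG.r h
  have h2 := congrArg UG.u2 h
  have h1 := congrArg UG.u1 h
  have hc := congrArg UG.c h
  have hb := congrArg UG.b h
  have ha := congrArg UG.a h
  simp only [UG.mul_r, UG.mul_u1, UG.mul_u2, UG.mul_a, UG.mul_b, UG.mul_c] at hr h1 h2 ha hb hc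
  have er : z.r = 0 := by linear_combination hr
  have e2 : z.u2 = 0 := by linear_combination h2
  rw [er] at h1 hb ha
  rw [e2] at hc
  have e1 : z.u1 = x.r * y.u2 - y.r * x.u2 := by linear_combination h1
  rw [e1] at hb ha
  simp only [star_add, star_mul', star_zero] at hb ha hc
  refine ⟨er, e2, e1, ?_, ?_, ?_⟩
  · linear_combination hc
  · linear_combination hb
  · linear_combination ha

theorem comm_mul : x * y * x⁻¹ * y⁻¹ * (y * x) = x * y := by group

theorem comm_r : (x * y * x⁻¹ * y⁻¹).r = 0 := (comm_aux (comm_mul x y)).1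
theorem comm_u2 : (x * y * x⁻¹ * y⁻¹).u2 = 0 := (comm_aux (comm_mul x y)).2.1
theorem comm_u1 : (x * y * x⁻¹ * y⁻¹).u1 = x.r * y.u2 - y.r * x.u2 := (comm_aux (comm_mul x y)).2.2.1
theorem comm_c : (x * y * x⁻¹ * y⁻¹).c = y.u2 * star x.u2 - x.u2 * star y.u2 :=
  (comm_aux (comm_mul x y)).2.2.2.1
theorem comm_b : (x * y * x⁻¹ * y⁻¹).b = x.r * y.c - y.r * x.c - x.u1 * star y.u2 + y.u1 * star x.u2 +
    (x.r * y.u2 - y.r * x.u2) * (star x.u2 + star y.u2) :=
  (comm_aux (comm_mul x y)).2.2.2.2.1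
theorem comm_a : (x * y * x⁻¹ * y⁻¹).a = x.r * y.d - y.r * x.d + star x.r * y.b - star y.r * x.b
    + x.r * star x.r * y.c - y.r * star y.r * x.c
    - x.u1 * (star y.u1 + star x.r * star y.u2) + y.u1 * (star x.u1 + star y.r * star x.u2)
    + (x.r * y.u2 - y.r * x.u2) * (star x.u1 + star y.u1 + star y.r * star x.u2) :=
  (comm_aux (comm_mul x y)).2.2.2.2.2

theorem commute_iff : x * y = y * x ↔ x.r * y.u2 = y.r * x.u2 ∧ x.u2 * star y.u2 = y.u2 * star x.u2 ∧
    x.r * y.c - x.u1 * star y.u2 = y.r * x.c - y.u1 * star x.u2 ∧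
    x.r * y.d + star x.r * y.b + x.r * star x.r * y.c - x.u1 * (star y.u1 + star x.r * star y.u2) =
      y.r * x.d + star y.r * x.b + y.r * star y.r * x.c - y.u1 * (star x.u1 + star y.r * star x.u2) := by
  constructor
  · intro h
    have h1 := congrArg UG.u1 h
    have h2 := congrArg UG.c h
    have h3 := congrArg UG.b h
    have h4 := congrArg UG.a h
    simp only [UG.mul_u1, UG.mul_c, UG.mul_b, UG.mul_a] at h1 h2 h3 h4
    refine ⟨?_, ?_, ?_, ?_⟩
    · linear_combination h1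
    · linear_combination -h2
    · linear_combination h3
    · linear_combination h4
  · rintro ⟨h1, h2, h3, h4⟩
    ext
    · simp only [UG.mul_r]; ring
    · simp only [UG.mul_u1]; linear_combination h1
    · simp only [UG.mul_u2]; ring
    · simp only [UG.mul_a]; linear_combination h4
    · simp only [UG.mul_b]; linear_combination h3
    · simp only [UG.mul_c]; linear_combination -h2

end comm

/-! ### the entry `d` -/

theorem d_def (x : UG K) : x.d = - star x.b - x.u2 * star x.u1 := rfl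

theorem d_mul (x y : UG K) : (x * y).d = x.d + y.d + star x.r * y.c - x.u2 * star y.u1
    - x.u2 * star x.r * star y.u2 := by
  have h := y.hc
  have h2 : y.u2 * star y.u2 = - y.c - star y.c := by linear_combination h
  simp only [UG.d, UG.mul_b, UG.mul_u1, UG.mul_u2, star_add, star_sub, star_mul', star_star]
  linear_combination (-star x.r) * h2

end Cfsg.Agent.H767.PU
end

-- part: H767/PU/Card
section
prune_inst 0xf4306704750202000018001262001c62b2000002002c0010e00001060dc98c608d412821ba100502088618c45038002813100000420800000a003000011f01a080035004832ca3042e000f800004000000000000000000000000000000000000000000000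
set_option linter.all false
open scoped Cfsg.Agent.FastGrp

/-!
# S5258: the field with involution, and the orders of the standard subgroups of `UG K` (helper767)
-/

set_option autoImplicit false

namespace Cfsg.Agent.H767.PU

open Cfsg Cfsg.FusionSystem Cfsg.Agent.H756.PU

universe u

variable {K : Type u} [Field K] [StarRing K] {p n : ℕ}

/-! ### the field -/

/-- the trace `x ↦ x + star x` -/
def trH : K →+ K where
  toFun x := x + star x
  map_zero' := by simp
  map_add' x y := by simp only [star_add]; ring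

theorem trH_apply (x : K) : trH x = x + star x := rfl

/-- the fixed field, as an additive group -/
def Fx (K : Type u) [Field K] [StarRing K] : AddSubgroup K where
  carrier := {x | star x = x}
  zero_mem' := by simp only [_root_.Set.mem_ofPred_eq, _root_.star_zero]
  add_mem' := by
    intro x y hx hy
    have hx' : star x = x := hx
    have hy' : star y = y := hy
    simp only [hx', hy', _root_.Set.mem_ofPred_eq, _root_.StarAddMonoid.star_add]
  neg_mem' := by
    intro x hx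
    have hx' : star x = x := hx
    simp only [hx', _root_.Set.mem_ofPred_eq, _root_.star_neg]

/-- the elements of trace zero -/
def Tz (K : Type u) [Field K] [StarRing K] : AddSubgroup K := (trH (K := K)).ker

theorem mem_Fx {x : K} : x ∈ Fx K ↔ star x = x := Iff.rfl
theorem mem_Tz {x : K} : x ∈ Tz K ↔ x + star x = 0 := Iff.rfl

theorem one_lt_q (h : HypK K p n) : 1 < p ^ n := Nat.one_lt_pow (by have := h.hn; omega) h.pp.one_lt

theorem card_roots_le (h : HypK K p n) (s : K) :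
    Nat.card {x : K // x ^ (p ^ n) + s * x = 0} ≤ p ^ n := by
  classical
  have hq := one_lt_q h
  have := h.fin
  set P : Polynomial K := Polynomial.X ^ (p ^ n) + Polynomial.C s * Polynomial.X with hP
  have hdeg : P.natDegree = p ^ n := by
    rw [hP]
    have h1 : (Polynomial.C s * Polynomial.X : Polynomial K).natDegree ≤ 1 :=
      (Polynomial.natDegree_C_mul_le s _).trans Polynomial.natDegree_X_le
    rw [Polynomial.natDegree_add_eq_left_of_natDegree_lt]
    · simp
    · simp only [Polynomial.natDegree_pow, Polynomial.natDegree_X, mul_one]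
      omega
  have hP0 : P ≠ 0 := by
    intro h0
    rw [h0] at hdeg
    simp at hdeg
    omega
  have hsub : {x : K | x ^ (p ^ n) + s * x = 0} ⊆ (P.roots.toFinset : Set K) := by
    intro x hx
    have hx' : x ^ (p ^ n) + s * x = 0 := hx
    simp only [Finset.mem_coe, Multiset.mem_toFinset]
    rw [Polynomial.mem_roots hP0, Polynomial.IsRoot.def, hP]
    simpa only [_root_.Polynomial.eval_add, _root_.Polynomial.eval_pow, _root_.Polynomial.eval_X, _root_.Polynomial.eval_mul, _root_.Polynomial.eval_C] using hx'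
  calc Nat.card {x : K // x ^ (p ^ n) + s * x = 0} = ({x : K | x ^ (p ^ n) + s * x = 0}).ncard :=
        Nat.card_coe_set_eq _
    _ ≤ (P.roots.toFinset : Set K).ncard := Set.ncard_le_ncard hsub (Finset.finite_toSet _)
    _ = P.roots.toFinset.card := Set.ncard_coe_finset _
    _ ≤ P.roots.card := Multiset.toFinset_card_le _
    _ ≤ P.natDegree := P.card_roots'
    _ = p ^ n := hdeg

theorem card_Fx_le (h : HypK K p n) : Nat.card (Fx K) ≤ p ^ n := by
  refine le_trans (le_of_eq ?_) (card_roots_le h (-1))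
  refine Nat.card_congr (Equiv.subtypeEquivRight fun x => ?_)
  rw [mem_Fx, h.star_eq]
  constructor
  · intro hx; rw [hx]; ring
  · intro hx; linear_combination hx

theorem card_Tz_le (h : HypK K p n) : Nat.card (Tz K) ≤ p ^ n := by
  refine le_trans (le_of_eq ?_) (card_roots_le h 1)
  refine Nat.card_congr (Equiv.subtypeEquivRight fun x => ?_)
  rw [mem_Tz, h.star_eq]
  constructor
  · intro hx; linear_combination hx
  · intro hx; linear_combination hx

theorem range_trH_le : (trH (K := K)).range ≤ Fx K := by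
  rintro _ ⟨x, rfl⟩
  rw [mem_Fx, trH_apply, star_add, star_star, add_comm]

theorem fld_aux (h : HypK K p n) : Nat.card (Fx K) = p ^ n ∧ Nat.card (Tz K) = p ^ n ∧
    (trH (K := K)).range = Fx K := by
  have := h.fin
  have hq := one_lt_q h
  have h1 : Nat.card (Tz K) * Nat.card (trH (K := K)).range = (p ^ n) ^ 2 := by
    rw [← h.card, ← AddSubgroup.card_mul_index (Tz K)]
    congr 1
    exact (AddSubgroup.index_ker _).symm
  have h2 : Nat.card (trH (K := K)).range ≤ Nat.card (Fx K) := AddSubgroup.card_le_of_le range_trH_le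
  have h3 := card_Fx_le h
  have h4 := card_Tz_le h
  have h5 : Nat.card (trH (K := K)).range = p ^ n := by
    refine le_antisymm (h2.trans h3) ?_
    by_contra hlt
    rw [not_le] at hlt
    have : Nat.card (Tz K) * Nat.card (trH (K := K)).range < p ^ n * p ^ n := by
      calc Nat.card (Tz K) * Nat.card (trH (K := K)).range ≤ p ^ n * Nat.card (trH (K := K)).range :=
            Nat.mul_le_mul_right _ h4
        _ < p ^ n * p ^ n := Nat.mul_lt_mul_of_pos_left hlt (by omega)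
    rw [h1, pow_two] at this
    exact lt_irrefl _ this
  have h6 : Nat.card (Tz K) = p ^ n := by
    rw [h5, pow_two] at h1
    exact Nat.eq_of_mul_eq_mul_right (by omega) h1
  have h7 : Nat.card (Fx K) = p ^ n := le_antisymm h3 (h5 ▸ h2)
  exact ⟨h7, h6, AddSubgroup.eq_of_le_of_card_ge range_trH_le (by rw [h5, h7])⟩

theorem card_Fx (h : HypK K p n) : Nat.card (Fx K) = p ^ n := (fld_aux h).1
theorem card_Tz (h : HypK K p n) : Nat.card (Tz K) = p ^ n := (fld_aux h).2.1

theorem exists_tr (h : HypK K p n) {c : K} (hc : star c = c) : ∃ a : K, a + star a = c := by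
  have h1 : c ∈ (trH (K := K)).range := by rw [(fld_aux h).2.2]; exact hc
  exact h1

theorem exists_a (h : HypK K p n) (u : K) : ∃ a : K, a + star a + u * star u = 0 := by
  obtain ⟨a, ha⟩ := exists_tr h (c := -(u * star u)) (by simp only [mul_comm, _root_.star_neg, _root_.star_mul', _root_.star_star])
  exact ⟨a, by rw [ha]; ring⟩

/-! ### orders -/

open Classical in
/-- a particular solution of `a + star a + u * star u = 0` with `a0 0 = 0` -/
noncomputable def a0 (h : HypK K p n) (u : K) : K := if u = 0 then 0 else (exists_a h u).choose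

theorem a0_spec (h : HypK K p n) (u : K) : a0 h u + star (a0 h u) + u * star u = 0 := by
  unfold a0
  split
  · next h0 => simp [h0]
  · exact (exists_a h u).choose_spec

/-- coordinates -/
noncomputable def coord (h : HypK K p n) : (K × K × K × K × Tz K × Tz K) ≃ UG K where
  toFun t := { r := t.1, u1 := t.2.1, u2 := t.2.2.1, b := t.2.2.2.1, a := a0 h t.2.1 + t.2.2.2.2.1,
               c := a0 h t.2.2.1 + t.2.2.2.2.2
               ha := by
                have h1 := a0_spec h t.2.1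
                have h2 := mem_Tz.mp t.2.2.2.2.1.2
                rw [star_add]
                linear_combination h1 + h2
               hc := by
                have h1 := a0_spec h t.2.2.1
                have h2 := mem_Tz.mp t.2.2.2.2.2.2
                rw [star_add]
                linear_combination h1 + h2 }
  invFun g := (g.r, g.u1, g.u2, g.b, ⟨g.a - a0 h g.u1, by
      have h1 := a0_spec h g.u1
      have h2 := g.ha
      rw [mem_Tz, star_sub]
      linear_combination h2 - h1⟩, ⟨g.c - a0 h g.u2, by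
      have h1 := a0_spec h g.u2
      have h2 := g.hc
      rw [mem_Tz, star_sub]
      linear_combination h2 - h1⟩)
  left_inv t := by simp
  right_inv g := by ext <;> simp

@[simp] theorem coord_r (h : HypK K p n) (t) : (coord h t).r = t.1 := rfl
@[simp] theorem coord_u1 (h : HypK K p n) (t) : (coord h t).u1 = t.2.1 := rfl
@[simp] theorem coord_u2 (h : HypK K p n) (t) : (coord h t).u2 = t.2.2.1 := rfl
@[simp] theorem coord_b (h : HypK K p n) (t) : (coord h t).b = t.2.2.2.1 := rfl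
@[simp] theorem coord_a (h : HypK K p n) (t) : (coord h t).a = a0 h t.2.1 + t.2.2.2.2.1 := rfl
@[simp] theorem coord_c (h : HypK K p n) (t) : (coord h t).c = a0 h t.2.2.1 + t.2.2.2.2.2 := rfl

theorem card_UG (h : HypK K p n) : Nat.card (UG K) = (p ^ n) ^ 10 := by
  rw [← Nat.card_congr (coord h)]
  simp only [Nat.card_prod, h.card, card_Tz h]
  ring

theorem card_sub (h : HypK K p n) (H : Subgroup (UG K)) (R A B C : Set K) (D E : Set (Tz K))
    (hH : ∀ t, coord h t ∈ H ↔ t.1 ∈ R ∧ t.2.1 ∈ A ∧ t.2.2.1 ∈ B ∧ t.2.2.2.1 ∈ C ∧ t.2.2.2.2.1 ∈ D ∧ t.2.2.2.2.2 ∈ E) :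
    Nat.card H = R.ncard * (A.ncard * (B.ncard * (C.ncard * (D.ncard * E.ncard)))) := by
  have h1 : (H : Set (UG K)) = coord h '' (R ×ˢ A ×ˢ B ×ˢ C ×ˢ D ×ˢ E) := by
    ext g
    constructor
    · intro hg
      refine ⟨(coord h).symm g, ?_, (coord h).apply_symm_apply g⟩
      have h2 := (hH ((coord h).symm g)).mp (by rw [(coord h).apply_symm_apply]; exact hg)
      simpa only [Set.mem_prod] using h2
    · rintro ⟨t, ht, rfl⟩
      exact (hH t).mpr (by simpa only [Set.mem_prod] using ht)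
  have h2 : Nat.card H = (H : Set (UG K)).ncard := Nat.card_coe_set_eq _
  rw [h2, h1, Set.ncard_image_of_injective _ (coord h).injective]
  simp only [Set.ncard_prod]

theorem ncard_univ_K (h : HypK K p n) : (Set.univ : Set K).ncard = (p ^ n) ^ 2 := by
  rw [Set.ncard_univ, h.card]
theorem ncard_univ_T (h : HypK K p n) : (Set.univ : Set (Tz K)).ncard = p ^ n := by
  rw [Set.ncard_univ, card_Tz h]

theorem card_Q2 (h : HypK K p n) : Nat.card (Q2 K) = (p ^ n) ^ 8 := by
  rw [card_sub h (Q2 K) {0} Set.univ Set.univ Set.univ Set.univ Set.univ]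
  · simp only [Set.ncard_singleton, ncard_univ_T h, ncard_univ_K h]; ring
  · intro t
    simp only [mem_Q2, coord_r, Set.mem_singleton_iff, Set.mem_univ, and_true]

theorem isPGroup_top (h : HypK K p n) : IsPGroup p (⊤ : Subgroup (UG K)) := by
  haveI : Fact p.Prime := ⟨h.pp⟩
  refine IsPGroup.of_card (n := n * 10) ?_
  rw [Subgroup.card_top, card_UG h, pow_mul]

theorem isPGroup_UG (h : HypK K p n) : IsPGroup p (UG K) := by
  haveI : Fact p.Prime := ⟨h.pp⟩
  refine IsPGroup.of_card (n := n * 10) ?_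
  rw [card_UG h, pow_mul]

end Cfsg.Agent.H767.PU

private theorem dce_8c395cb2ffe4 : _root_.True := by
  try have : _root_.True := by simp only [_root_.Cfsg.Agent.H767.PU.coord.congr_simp]
  try have : _root_.True := by simp only [_root_.Cfsg.Agent.H767.PU.a0.eq_1]
  try have : _root_.True := by simp only [_root_.Cfsg.Agent.H767.PU.a0.congr_simp]
  exact _root_.True.intro
end

-- part: H12/PU/Comm_mg
section
prune_inst 0x142021040400000000000000600000402000000000200010400000060001004005000801080001020000000000000068100000000000000000000000000000000000100480080000000000000000000000000000000000000000000000000000000000000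
set_option linter.all false
open scoped Cfsg.Agent.FastGrp

-- part: H12/PU/Comm
section
/-!
# S5258: the commuting lemma (G3)
-/

set_option autoImplicit false

namespace Cfsg.Agent.H12.PU

open Cfsg Cfsg.FusionSystem Cfsg.Agent.H756.PU Cfsg.Agent.H802

universe u

/-- a group is not the union of two proper subgroups -/
theorem le_or_le {G : Type*} [Group G] {A B C : Subgroup G} (h : ∀ g ∈ A, g ∈ B ∨ g ∈ C) : A ≤ B ∨ A ≤ C := by
  by_contra hcon
  push Not at hcon
  obtain ⟨h1, h2⟩ := hcon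
  obtain ⟨x, hxA, hxB⟩ := SetLike.not_le_iff_exists.1 h1
  obtain ⟨y, hyA, hyC⟩ := SetLike.not_le_iff_exists.1 h2
  have hxC : x ∈ C := (h x hxA).resolve_left hxB
  have hyB : y ∈ B := (h y hyA).resolve_right hyC
  rcases h (x * y) (A.mul_mem hxA hyA) with h3 | h3
  · exact hxB ((Subgroup.mul_mem_cancel_right B hyB).1 h3)
  · exact hyC ((Subgroup.mul_mem_cancel_left C hxC).1 h3)

/-- **(G3)** -/
theorem stComm : StComm.{u} := by
  intro Ω _ S E p Γ hE Γ0 A hAN hAE hcomm
  obtain ⟨a, haA, haE⟩ := SetLike.not_le_iff_exists.1 hAE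
  have haN := hAN haA
  obtain ⟨α, hα⟩ := exists_conjAut (P := E) haN.2
  obtain ⟨H, hHΓ, hHne, hSH, -, hspe⟩ := hE.spe
  have hαS : α ∈ autInducedBy S E := (mem_autInducedBy_iff S E α).2 ⟨a, haN.1, hα⟩
  have hαH : α ∈ H := hSH hαS
  have hαp : ∃ k : ℕ, α ^ p ^ k = 1 := by
    obtain ⟨k, hk⟩ := isPGroup_autInducedBy hE.pgr E ⟨α, hαS⟩
    exact ⟨k, congrArg Subtype.val hk⟩
  have hαI : α ∉ Inn E := by
    rintro ⟨e, he⟩
    apply haE
    have h1 : (e : Ω)⁻¹ * a ∈ E := by
      refine hE.cent _ (S.mul_mem (S.inv_mem (hE.E_le e.2)) haN.1) fun x hx => ?_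
      have h2 : ((α ⟨x, hx⟩ : E) : Ω) = a * x * a⁻¹ := hα ⟨x, hx⟩
      rw [← he, MulAut.conj_apply] at h2
      have h3 : (e : Ω) * x * (e : Ω)⁻¹ = a * x * a⁻¹ := h2
      have h4 : x = (e : Ω)⁻¹ * (a * x * a⁻¹) * e := by rw [← h3]; group
      symm
      calc x * ((e : Ω)⁻¹ * a) = ((e : Ω)⁻¹ * (a * x * a⁻¹) * e) * ((e : Ω)⁻¹ * a) := by rw [← h4]
        _ = (e : Ω)⁻¹ * a * x := by group
    have h2 := E.mul_mem e.2 h1
    rwa [mul_inv_cancel_left] at h2
  have key : ∀ g ∈ Γ, g ∈ Γ0 ∨ g ∈ H := by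
    intro g hg
    by_cases hg0 : g ∈ Γ0
    · exact Or.inl hg0
    · right
      have h1 := hcomm g hg hg0 a haA a haA α α hα hα
      -- the conjugate of `α` lies in `H`
      have h2 : g * α * g⁻¹ ∈ H := by
        by_contra h3
        apply hαI
        refine hspe _ (Γ.mul_mem (Γ.mul_mem hg (hHΓ hαH)) (Γ.inv_mem hg)) h3 α hαH ?_ hαp
        have h4 : g * α * g⁻¹ * α * (g * α * g⁻¹)⁻¹ = α := by
          rw [← h1, mul_inv_cancel_right]
        rw [h4]
        exact hαH
      by_contra h3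
      exact hαI (hspe g hg h3 α hαH h2 hαp)
  rcases le_or_le key with h | h
  · exact h
  · exact absurd (le_antisymm hHΓ h) hHne

end Cfsg.Agent.H12.PU
end

-- part: H161/PU/Lift
section
/-!
# S5258, (G10): uniqueness of lifts (cocycle averaging)

`stLift : StLift`.
-/

set_option autoImplicit false

namespace Cfsg.Agent.H161.PU

universe u

open Subgroup

section
variable {G : Type u} [Group G] [Finite G] {p : ℕ} [hp : Fact p.Prime]

/-- the elements of `C` centralizing `L` modulo `I` -/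
def BB (C L I : Subgroup G) (hC : ∀ x ∈ C, ∀ y ∈ C, x * y = y * x) (hI : I ≤ C) : Subgroup G where
  carrier := {x | x ∈ C ∧ ∀ g ∈ L, x * g * x⁻¹ * g⁻¹ ∈ I}
  one_mem' := ⟨C.one_mem, fun g _ => by simpa using I.one_mem⟩
  mul_mem' := by
    rintro x y ⟨hx, hx'⟩ ⟨hy, hy'⟩
    refine ⟨C.mul_mem hx hy, fun g hg => ?_⟩
    have h1 := hy' g hg
    have e : x * y * g * (x * y)⁻¹ * g⁻¹ = (x * (y * g * y⁻¹ * g⁻¹) * x⁻¹) * (x * g * x⁻¹ * g⁻¹) := by group
    have e2 : x * (y * g * y⁻¹ * g⁻¹) * x⁻¹ = y * g * y⁻¹ * g⁻¹ := by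
      rw [hC x hx _ (hI h1), mul_inv_cancel_right]
    rw [e, e2]
    exact I.mul_mem h1 (hx' g hg)
  inv_mem' := by
    rintro x ⟨hx, hx'⟩
    refine ⟨C.inv_mem hx, fun g hg => ?_⟩
    have h1 := I.inv_mem (hx' g hg)
    have e : x⁻¹ * g * x⁻¹⁻¹ * g⁻¹ = x⁻¹ * (x * g * x⁻¹ * g⁻¹)⁻¹ * x := by group
    rw [e, hC _ (C.inv_mem hx) _ (hI h1), inv_mul_cancel_right]
    exact h1

/-- the cocycle is a coboundary -/
theorem exists_conj (C L L' P I : Subgroup G) (hCn : C.Normal) (hC : ∀ x ∈ C, ∀ y ∈ C, x * y = y * x)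
    (hp : IsPGroup p C) (hsup : L ⊔ C = L' ⊔ C) (hI : L ⊓ C = I) (hI' : L' ⊓ C = I) (hPL : P ≤ L) (hPL' : P ≤ L')
    (hidx : ¬ p ∣ P.relIndex L) : ∃ c ∈ C, ∀ g ∈ L, c * g * c⁻¹ ∈ L' := by
  have hIC : I ≤ C := by rw [← hI]; exact inf_le_right
  have hIL : I ≤ L := by rw [← hI]; exact inf_le_left
  have hIL' : I ≤ L' := by rw [← hI']; exact inf_le_left
  let iC : CommGroup C := { (inferInstance : Group C) with mul_comm := fun a b => Subtype.ext (hC a a.2 b b.2) }
  -- the quotient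
  set J : Subgroup C := I.subgroupOf C with hJ
  let A := C ⧸ J
  let mk : C →* C ⧸ J := QuotientGroup.mk' J
  have hmk : ∀ x y : C, mk x = mk y ↔ ((x : G)⁻¹ * y) ∈ I := by
    intro x y
    rw [QuotientGroup.mk'_apply, QuotientGroup.mk'_apply, QuotientGroup.eq, mem_subgroupOf]
    rfl
  -- the difference
  have hex : ∀ g : L, ∃ x : C, (x : G) * g ∈ L' := by
    intro g
    have h1 : (g : G) ∈ L' ⊔ C := by rw [← hsup]; exact mem_sup_left g.2
    rw [sup_comm] at h1
    obtain ⟨y, hy, z, hz, h2⟩ := (mem_sup_of_normal_left).1 h1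
    exact ⟨⟨y⁻¹, C.inv_mem hy⟩, by rw [← h2]; simpa using hz⟩
  choose ε hε using hex
  have huniq : ∀ (g : L) (x : C), (x : G) * g ∈ L' → mk (ε g) = mk x := by
    intro g x hx
    rw [hmk]
    have h1 : (x : G) * g * ((ε g : G) * g)⁻¹ ∈ L' := L'.mul_mem hx (L'.inv_mem (hε g))
    have e : (x : G) * g * ((ε g : G) * g)⁻¹ = x * (ε g : G)⁻¹ := by group
    rw [e, hC _ x.2 _ (C.inv_mem (ε g).2)] at h1
    rw [← hI']
    exact ⟨h1, C.mul_mem (C.inv_mem (ε g).2) x.2⟩
  -- conjugation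
  let cj : L → C → C := fun g x => ⟨g * x * (g : G)⁻¹, hCn.conj_mem x x.2 g⟩
  have hcjmul : ∀ g x y, cj g (x * y) = cj g x * cj g y := by
    intro g x y
    apply Subtype.ext
    change (g : G) * (x * y) * (g : G)⁻¹ = (g * x * (g : G)⁻¹) * (g * y * (g : G)⁻¹)
    group
  let cjh : L → (C →* C) := fun g => MonoidHom.mk' (cj g) (hcjmul g)
  have hcoc : ∀ g h : L, mk (ε (g * h)) = mk (ε g) * mk (cj g (ε h)) := by
    intro g h
    rw [← map_mul]
    apply huniq
    change (ε g : G) * (g * ε h * (g : G)⁻¹) * (g * h) ∈ L'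
    have e : (ε g : G) * (g * ε h * (g : G)⁻¹) * (g * h) = (ε g * g) * (ε h * h) := by group
    rw [e]
    exact L'.mul_mem (hε g) (hε h)
  have hP1 : ∀ x : L, (x : G) ∈ P → ∀ g : L, mk (ε (g * x)) = mk (ε g) := by
    intro x hx g
    have h1 : mk (ε x) = mk 1 := huniq x 1 (by simpa using hPL' hx)
    rw [hcoc]
    have h2 : mk (cj g (ε x)) = 1 := by
      rw [map_one, ] at h1
      have h3 : (ε x : G) ∈ I := by
        have := (hmk (ε x) 1).1 (by rw [map_one]; exact h1)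
        simpa using this
      have h4 : ((cj g (ε x) : C) : G) ∈ I := by
        rw [← hI]
        exact ⟨L.mul_mem (L.mul_mem g.2 (hIL h3)) (L.inv_mem g.2), (cj g (ε x)).2⟩
      have h5 := (hmk (cj g (ε x)) 1).2 (by simpa only [_root_.OneMemClass.coe_one, _root_.mul_one, _root_.inv_mem_iff] using h4)
      rw [h5, map_one]
    rw [h2, mul_one]
  -- the average
  set m := P.relIndex L with hm
  let Q := L ⧸ P.subgroupOf L
  have hQf : Finite Q := Quotient.finite _
  let _ : Fintype Q := Fintype.ofFinite Q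
  have hQc : Fintype.card Q = m := by
    rw [← Nat.card_eq_fintype_card]
    rfl
  let b : C := ∏ q : Q, ε q.out
  have hbar : ∀ h : L, ∏ q : Q, mk (ε (h * q.out)) = mk b := by
    intro h
    rw [show mk b = ∏ q : Q, mk (ε q.out) from map_prod mk _ _]
    refine Fintype.prod_equiv (MulAction.toPerm h) _ _ fun q => ?_
    change mk (ε (h * q.out)) = mk (ε (h • q).out)
    have h1 : (QuotientGroup.mk (h • q).out : Q) = QuotientGroup.mk (h * q.out) := by
      rw [QuotientGroup.out_eq', ← smul_eq_mul, ← MulAction.Quotient.smul_mk, QuotientGroup.out_eq']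
    have h2 := QuotientGroup.eq.1 h1.symm
    have h3 := hP1 _ (mem_subgroupOf.1 h2) (h * q.out)
    rw [mul_inv_cancel_left] at h3
    exact h3.symm
  have hconj : ∀ h : L, mk (cj h b) * mk (ε h) ^ m = mk b := by
    intro h
    have h1 : cj h b = ∏ q : Q, cj h (ε q.out) := map_prod (cjh h) _ _
    rw [h1, map_prod, ← hQc, ← Finset.card_univ, ← Finset.prod_const, ← Finset.prod_mul_distrib, ← hbar h]
    refine Finset.prod_congr rfl fun q _ => ?_
    rw [hcoc, mul_comm]
  -- the root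
  have hcop : (Nat.card C).Coprime m := by
    obtain ⟨k, hk⟩ := IsPGroup.iff_card.1 hp
    rw [hk]
    exact Nat.Coprime.pow_left _ ((Nat.Prime.coprime_iff_not_dvd Fact.out).2 hidx)
  have hcopA : (Nat.card (C ⧸ J)).Coprime m := hcop.coprime_dvd_left (Subgroup.card_quotient_dvd_card J)
  obtain ⟨c, hc⟩ := (powCoprime hcop).surjective b
  have hc : c ^ m = b := hc
  refine ⟨c, c.2, fun g hg => ?_⟩
  set h : L := ⟨g, hg⟩ with hh
  have h1 := hconj h
  rw [← hc] at h1
  have h2 : cj h (c ^ m) = (cj h c) ^ m := map_pow (cjh h) c m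
  rw [h2, map_pow, map_pow, ← mul_pow] at h1
  have h3 : mk (cj h c) * mk (ε h) = mk c := (powCoprime hcopA).injective h1
  rw [← map_mul, hmk] at h3
  -- `(cj h c * ε h)⁻¹ * c ∈ I`
  have h4 : ((cj h c * ε h : C) : G)⁻¹ * c ∈ L' := hIL' h3
  change ((g * c * g⁻¹) * (ε h : G))⁻¹ * c ∈ L' at h4
  have h5 : (ε h : G) * g ∈ L' := hε h
  have h6 : g * (c : G) * g⁻¹ ∈ C := hCn.conj_mem c c.2 g
  have e : (c : G) * g * (c : G)⁻¹ = (((g * c * g⁻¹) * (ε h : G))⁻¹ * c) * ((ε h : G) * g) := by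
    have e1 : ((g * (c : G) * g⁻¹) * (ε h : G))⁻¹ * c = (ε h : G)⁻¹ * (c * (g * (c : G) * g⁻¹)⁻¹) := by
      rw [mul_inv_rev, mul_assoc, hC _ (C.inv_mem h6) _ c.2]
    have e2 : (ε h : G)⁻¹ * (c * (g * (c : G) * g⁻¹)⁻¹) = (c * (g * (c : G) * g⁻¹)⁻¹) * (ε h : G)⁻¹ :=
      hC _ (C.inv_mem (ε h).2) _ (C.mul_mem c.2 (C.inv_mem h6))
    rw [e1, e2]
    group
  rw [e]
  exact L'.mul_mem h4 h5

end

theorem stLift : Cfsg.Agent.H756.PU.StLift.{u} := by
  intro G _ _ p hpf C L L' P H hCn hC hpC hsup hinf hPL hPL' hIP hidx _ _ hHL hHL' hcop hfix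
  set I := L ⊓ C with hI
  have hIC : I ≤ C := inf_le_right
  have hIL : I ≤ L := inf_le_left
  have hIL' : I ≤ L' := by rw [hinf]; exact inf_le_left
  obtain ⟨c, hc, hcL⟩ := exists_conj (p := p) C L L' P I hCn hC hpC hsup rfl hinf.symm hPL hPL' hidx
  -- the other inclusion
  have hcL' : ∀ g ∈ L', c⁻¹ * g * c ∈ L := by
    intro g hg
    have h1 : g ∈ C ⊔ L := by rw [sup_comm, hsup]; exact mem_sup_left hg
    obtain ⟨x, hx, l, hl, rfl⟩ := (mem_sup_of_normal_left).1 h1
    have h2 : x * l * (c * l * c⁻¹)⁻¹ ∈ L' := L'.mul_mem hg (L'.inv_mem (hcL l hl))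
    have h3 : x * l * (c * l * c⁻¹)⁻¹ ∈ C := by
      have e : x * l * (c * l * c⁻¹)⁻¹ = x * (l * c * l⁻¹) * c⁻¹ := by group
      rw [e]
      exact C.mul_mem (C.mul_mem hx (hCn.conj_mem c hc l)) (C.inv_mem hc)
    have h4 : x * l * (c * l * c⁻¹)⁻¹ ∈ I := by rw [hinf]; exact ⟨h2, h3⟩
    have e : c⁻¹ * (x * l) * c = (c⁻¹ * (x * l * (c * l * c⁻¹)⁻¹) * c) * l := by group
    rw [e, hC _ (C.inv_mem hc) _ h3, inv_mul_cancel_right]
    exact L.mul_mem (hIL h4) hl
  -- the group `B`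
  set B := BB C L I hC hIC with hB
  have hHC : ∀ t ∈ H, ∀ x ∈ C, t * x * t⁻¹ ∈ C := fun t _ x hx => hCn.conj_mem x hx t
  have hd : ∀ t ∈ H, t * c * t⁻¹ * c⁻¹ ∈ B := by
    intro t ht
    have hct := hHC t ht c hc
    refine ⟨C.mul_mem hct (C.inv_mem hc), fun g hg => ?_⟩
    have h1 : t⁻¹ * g * t ∈ L := by
      have := (mem_normalizer_iff.1 (inv_mem (hHL ht)) g).1 hg
      simpa using this
    have h2 : t * (c * (t⁻¹ * g * t) * c⁻¹) * t⁻¹ ∈ L' := (mem_normalizer_iff.1 (hHL' ht) _).1 (hcL _ h1)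
    have h3 := hcL' _ h2
    have e1 : t * c * t⁻¹ * c⁻¹ = c⁻¹ * (t * c * t⁻¹) := hC _ hct _ (C.inv_mem hc)
    have h4 : (t * c * t⁻¹ * c⁻¹) * g * (t * c * t⁻¹ * c⁻¹)⁻¹ ∈ L := by
      rw [e1]
      have e : c⁻¹ * (t * c * t⁻¹) * g * (c⁻¹ * (t * c * t⁻¹))⁻¹ = c⁻¹ * (t * (c * (t⁻¹ * g * t) * c⁻¹) * t⁻¹) * c := by
        group
      rw [e]
      exact h3
    refine ⟨L.mul_mem h4 (L.inv_mem hg), ?_⟩
    have e : (t * c * t⁻¹ * c⁻¹) * g * (t * c * t⁻¹ * c⁻¹)⁻¹ * g⁻¹ =
        (t * c * t⁻¹ * c⁻¹) * (g * (t * c * t⁻¹ * c⁻¹)⁻¹ * g⁻¹) := by group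
    rw [e]
    have h5 : t * c * t⁻¹ * c⁻¹ ∈ C := C.mul_mem hct (C.inv_mem hc)
    exact C.mul_mem h5 (hCn.conj_mem _ (C.inv_mem h5) g)
  -- the average over `H`
  have hcB : c ∈ B := by
    let iC : CommGroup C := { (inferInstance : Group C) with mul_comm := fun a b => Subtype.ext (hC a a.2 b b.2) }
    have hHf : Finite H := inferInstance
    let _ : Fintype H := Fintype.ofFinite H
    let f : H → C := fun t => ⟨t * c * (t : G)⁻¹, hHC t t.2 c hc⟩
    let e : C := ∏ t : H, f t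
    have he : (e : G) = 1 := by
      refine hfix e e.2 fun s hs => ?_
      have h1 : (⟨s * e * s⁻¹, hHC s hs e e.2⟩ : C) = e := by
        let φ : C →* C := MonoidHom.mk' (fun x => (⟨s * x * s⁻¹, hHC s hs x x.2⟩ : C)) fun x y => by
          apply Subtype.ext
          change s * (x * y) * s⁻¹ = s * x * s⁻¹ * (s * y * s⁻¹)
          group
        change φ e = e
        rw [show φ e = ∏ t : H, φ (f t) from map_prod φ _ _]
        refine Fintype.prod_equiv (Equiv.mulLeft (⟨s, hs⟩ : H)) _ _ fun t => ?_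
        apply Subtype.ext
        change s * (t * c * (t : G)⁻¹) * s⁻¹ = (s * t) * c * (s * t : G)⁻¹
        group
      have h2 := congrArg (fun x : C => (x : G)) h1
      change s * (e : G) * s⁻¹ = e at h2
      exact mul_inv_eq_iff_eq_mul.1 h2
    have h3 : e = (∏ t : H, (⟨t * c * (t : G)⁻¹ * c⁻¹, (hd t t.2).1⟩ : C)) * (⟨c, hc⟩ : C) ^ Fintype.card H := by
      rw [← Finset.card_univ, ← Finset.prod_const, ← Finset.prod_mul_distrib]
      refine Finset.prod_congr rfl fun t _ => ?_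
      apply Subtype.ext
      change (t : G) * c * (t : G)⁻¹ = t * c * (t : G)⁻¹ * c⁻¹ * c
      group
    have h4 : ((∏ t : H, (⟨t * c * (t : G)⁻¹ * c⁻¹, (hd t t.2).1⟩ : C) : C) : G) ∈ B := by
      have h5 : (∏ t : H, (⟨t * c * (t : G)⁻¹ * c⁻¹, (hd t t.2).1⟩ : C)) ∈ B.subgroupOf C :=
        Subgroup.prod_mem _ fun t _ => mem_subgroupOf.2 (hd t t.2)
      exact mem_subgroupOf.1 h5
    have h5 : c ^ Fintype.card H ∈ B := by
      have h6 := congrArg (fun x : C => (x : G)) h3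
      change (e : G) = _ * c ^ Fintype.card H at h6
      rw [he] at h6
      have h7 : c ^ Fintype.card H = ((∏ t : H, (⟨t * c * (t : G)⁻¹ * c⁻¹, (hd t t.2).1⟩ : C) : C) : G)⁻¹ :=
        (inv_eq_of_mul_eq_one_right h6.symm).symm
      rw [h7]
      exact B.inv_mem h4
    -- the order of `c` is prime to `|H|`
    have h6 : (orderOf c).Coprime (Fintype.card H) := by
      obtain ⟨k, hk⟩ := IsPGroup.iff_card.1 hpC
      have h7 : orderOf c ∣ p ^ k := by
        rw [← hk]
        exact Subgroup.orderOf_dvd_natCard C hc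
      rw [← Nat.card_eq_fintype_card]
      exact Nat.Coprime.coprime_dvd_left h7 (Nat.Coprime.pow_left _ hcop.symm)
    have h7 : c ∈ zpowers (c ^ Fintype.card H) := by
      have h8 := (exists_pow_eq_self_of_coprime (n := Fintype.card H) (x := c) h6.symm)
      obtain ⟨n, hn⟩ := h8
      exact ⟨n, by simpa only [_root_.zpow_natCast] using hn⟩
    exact (zpowers_le.2 h5) h7
  -- conclusion
  apply le_antisymm
  · intro g hg
    have h1 := hcL g hg
    have h2 := hcB.2 g hg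
    have h3 : g = (c * g * c⁻¹ * g⁻¹)⁻¹ * (c * g * c⁻¹) := by group
    rw [h3]
    exact L'.mul_mem (L'.inv_mem (hIL' h2)) h1
  · intro g hg
    have h1 := hcL' g hg
    have h2 := hcB.2 _ h1
    have h3 : g = (c * (c⁻¹ * g * c) * c⁻¹ * (c⁻¹ * g * c)⁻¹) * (c⁻¹ * g * c) := by group
    rw [h3]
    exact L.mul_mem (hIL h2) h1

end Cfsg.Agent.H161.PU
end

-- part: H647/PU/Co
section
/-!
# S5258: coordinate facts on `UG K` and the subgroup `hull`, used in E3b
-/

set_option autoImplicit false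

namespace Cfsg.Agent.H647.PU

open Cfsg Cfsg.FusionSystem Cfsg.Agent.H756.PU Cfsg.Agent.H767.PU

universe u

section coord
variable {K : Type u} [Field K] [StarRing K]

/-- `Z` is central -/
theorem ZS_comm (g : UG K) {z : UG K} (hz : z ∈ ZS K) : g * z = z * g := by
  rw [mem_ZS] at hz
  obtain ⟨h1, h2, h3, h4, h5⟩ := hz
  ext
  · simp [h1]
  · simp [h1, h2, h3]
  · simp [h3]
  · simp only [UG.mul_a, UG.d, h1, h2, h3, h4, h5, add_comm, _root_.star_zero, _root_.neg_zero, _root_.MulZeroClass.mul_zero, _root_.sub_self, _root_.add_zero, _root_.sub_zero, _root_.MulZeroClass.zero_mul, _root_.zero_add]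
  · simp only [UG.mul_b, h1, h2, h3, h4, h5, _root_.add_zero, _root_.MulZeroClass.mul_zero, _root_.star_zero, _root_.sub_zero, _root_.zero_add, _root_.MulZeroClass.zero_mul]
  · simp only [h3, h5, _root_.Cfsg.Agent.H756.PU.UG.mul_c, _root_.add_zero, _root_.star_zero, _root_.MulZeroClass.mul_zero, _root_.sub_zero, _root_.zero_add, _root_.MulZeroClass.zero_mul]

theorem com_ZS {N : Subgroup (UG K)} (g : UG K) {z : UG K} (hz : z ∈ ZS K) : g * z * g⁻¹ * z⁻¹ ∈ N := by
  rw [ZS_comm g hz]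
  simp

/-- `[S, Z₂] ≤ Z` -/
theorem com_Z2 (g : UG K) {z : UG K} (hz : z ∈ Z2 K) : g * z * g⁻¹ * z⁻¹ ∈ ZS K := by
  rw [mem_Z2] at hz
  obtain ⟨h1, h2, h3, h5⟩ := hz
  rw [mem_ZS]
  refine ⟨comm_r _ _, ?_, comm_u2 _ _, ?_, ?_⟩
  · rw [comm_u1, h1, h3]; ring
  · rw [comm_b, h1, h2, h3, h5]; simp only [_root_.MulZeroClass.mul_zero, _root_.MulZeroClass.zero_mul, _root_.sub_self, _root_.star_zero, _root_.add_zero]
  · rw [comm_c, h3]; simp only [_root_.MulZeroClass.zero_mul, _root_.star_zero, _root_.MulZeroClass.mul_zero, _root_.sub_self]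

/-- `[S, Y₁] ≤ Z₂` -/
theorem com_Y1 (g : UG K) {y : UG K} (hy : y ∈ Y1 K) : g * y * g⁻¹ * y⁻¹ ∈ Z2 K := by
  rw [mem_Y1] at hy
  obtain ⟨h1, h3, h5⟩ := hy
  rw [mem_Z2]
  refine ⟨comm_r _ _, ?_, comm_u2 _ _, ?_⟩
  · rw [comm_u1, h1, h3]; ring
  · rw [comm_c, h3]; simp only [_root_.MulZeroClass.zero_mul, _root_.star_zero, _root_.MulZeroClass.mul_zero, _root_.sub_self]

theorem com_Y1_b (g : UG K) {y : UG K} (hy : y ∈ Y1 K) : (g * y * g⁻¹ * y⁻¹).b = y.u1 * star g.u2 := by
  rw [mem_Y1] at hy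
  obtain ⟨h1, h3, h5⟩ := hy
  rw [comm_b, h1, h3, h5]; simp only [_root_.MulZeroClass.mul_zero, _root_.MulZeroClass.zero_mul, _root_.sub_self, _root_.star_zero, _root_.zero_add, _root_.add_zero]

theorem com_Y1_ZS {g : UG K} {y : UG K} (hy : y ∈ Y1 K) :
    g * y * g⁻¹ * y⁻¹ ∈ ZS K ↔ y.u1 * star g.u2 = 0 := by
  rw [← com_Y1_b g hy]
  constructor
  · intro h; exact h.2.2.2.1
  · intro h
    have := com_Y1 g hy
    exact ⟨this.1, this.2.1, this.2.2.1, h, this.2.2.2⟩

/-- `[a,b] ∈ N` iff `[b,a] ∈ N` -/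
theorem com_symm {G : Type*} [Group G] {N : Subgroup G} {x y : G} (h : x * y * x⁻¹ * y⁻¹ ∈ N) :
    y * x * y⁻¹ * x⁻¹ ∈ N := by
  have := N.inv_mem h
  have e : (x * y * x⁻¹ * y⁻¹)⁻¹ = y * x * y⁻¹ * x⁻¹ := by group
  rwa [e] at this

/-- the coordinate `u₂` as a homomorphism -/
def hu2 : UG K →* Multiplicative K where
  toFun g := Multiplicative.ofAdd g.u2
  map_one' := rfl
  map_mul' _ _ := rfl

theorem hu2_ker : (hu2 (K := K)).ker = QV K := by
  ext g
  rw [MonoidHom.mem_ker, mem_QV]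
  exact Multiplicative.ofAdd.apply_eq_iff_eq (x := g.u2) (y := (0 : K))

/-- the coordinate `u₁` as a homomorphism on `Y₁` -/
def hu1 : Y1 K →* Multiplicative K where
  toFun g := Multiplicative.ofAdd (g : UG K).u1
  map_one' := rfl
  map_mul' x y := by
    rw [← ofAdd_add]
    congr 1
    have h := mem_Y1.mp x.2
    simp [h.1]

theorem hu1_ker : (hu1 (K := K)).ker = (Z2 K).subgroupOf (Y1 K) := by
  ext g
  rw [MonoidHom.mem_ker, Subgroup.mem_subgroupOf, mem_Z2]
  have h := mem_Y1.mp g.2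
  have e : hu1 g = 1 ↔ (g : UG K).u1 = 0 :=
    Multiplicative.ofAdd.apply_eq_iff_eq (x := (g : UG K).u1) (y := (0 : K))
  rw [e]
  exact ⟨fun hh => ⟨h.1, hh, h.2.1, h.2.2⟩, fun hh => hh.2.1⟩

end coord

section field
variable {K : Type u} [Field K] [StarRing K] {p n : ℕ}

/-- `star` is not the identity -/
theorem exists_star_ne (h : HypK K p n) : ∃ s : K, star s ≠ s := by
  classical
  have := h.fin
  have : Fintype K := Fintype.ofFinite K
  by_contra hc
  push Not at hc
  have hq : 2 ≤ p ^ n := by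
    calc 2 ≤ p := h.pp.two_le
      _ = p ^ 1 := (pow_one p).symm
      _ ≤ p ^ n := Nat.pow_le_pow_right h.pp.pos h.hn
  have hr : ∀ x : K, x ^ (p ^ n) = x := fun x => by rw [← h.star_eq, hc]
  set P : Polynomial K := Polynomial.X ^ (p ^ n) - Polynomial.X with hP
  have hP0 : P ≠ 0 := FiniteField.X_pow_card_sub_X_ne_zero K (by omega)
  have hdeg : P.natDegree = p ^ n := FiniteField.X_pow_card_sub_X_natDegree_eq K (by omega)
  have hroots : (Finset.univ : Finset K).val ⊆ P.roots := by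
    intro x _
    rw [Polynomial.mem_roots hP0, Polynomial.IsRoot.def, hP]
    simp [hr x]
  have h1 : (Finset.univ : Finset K).card ≤ P.natDegree :=
    Polynomial.card_le_degree_of_subset_roots hroots
  rw [hdeg, Finset.card_univ, ← Nat.card_eq_fintype_card, h.card] at h1
  nlinarith only [hq, h1]

/-- there is an element of trace one -/
theorem exists_tr_one (h : HypK K p n) : ∃ t : K, t + star t = 1 := by
  obtain ⟨s, hs⟩ := exists_star_ne h
  have h0 : s - star s ≠ 0 := sub_ne_zero.mpr (Ne.symm hs)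
  refine ⟨s / (s - star s), ?_⟩
  have e2 : star (s - star s) = - (s - star s) := by rw [star_sub, star_star]; ring
  rw [star_div₀, e2]
  field_simp
  ring

/-- every norm is a trace: `Y₁` projects onto `K` -/
theorem exists_Y1 (h : HypK K p n) (t : K) : ∃ y ∈ Y1 K, y.u1 = t := by
  obtain ⟨l, hl⟩ := exists_tr_one h
  refine ⟨{ r := 0, u1 := t, u2 := 0, a := - (l * (t * star t)), b := 0, c := 0, ha := ?_, hc := ?_ }, ?_, rfl⟩
  · rw [star_neg, star_mul', star_mul', star_star]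
    linear_combination (- (t * star t)) * hl
  · simp
  · rw [mem_Y1]; exact ⟨rfl, rfl, rfl⟩

theorem index_Z2_Y1 (h : HypK K p n) : (Z2 K).relIndex (Y1 K) = Nat.card K := by
  rw [Subgroup.relIndex, ← hu1_ker, Subgroup.index_ker]
  have : (hu1 (K := K)).range = ⊤ := by
    rw [MonoidHom.range_eq_top]
    intro t
    obtain ⟨y, hy, hyt⟩ := exists_Y1 h (Multiplicative.toAdd t)
    refine ⟨⟨y, hy⟩, ?_⟩
    change Multiplicative.ofAdd y.u1 = t
    rw [hyt]; rfl
  rw [this, Nat.card_congr Subgroup.topEquiv.toEquiv]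
  exact Nat.card_congr Multiplicative.toAdd

/-- `Y₁/Z₂` has exponent `p` -/
theorem pow_Y1 (h : HypK K p n) {y : UG K} (hy : y ∈ Y1 K) : y ^ p ∈ Z2 K := by
  have := h.char
  have h1 : (⟨y, hy⟩ : Y1 K) ^ p ∈ (hu1 (K := K)).ker := by
    rw [MonoidHom.mem_ker, map_pow]
    change Multiplicative.ofAdd y.u1 ^ p = 1
    rw [← ofAdd_nsmul, nsmul_eq_mul, CharP.cast_eq_zero, zero_mul]
    rfl
  rw [hu1_ker, Subgroup.mem_subgroupOf] at h1
  exact h1

/-- `Z₂` has exponent `p` -/
theorem pow_Z2 (h : HypK K p n) {z : UG K} (hz : z ∈ Z2 K) : z ^ p = 1 := by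
  have := h.char
  have key : ∀ k : ℕ, (z ^ k) ∈ Z2 K ∧ (z ^ k).a = k * z.a ∧ (z ^ k).b = k * z.b := by
    intro k
    induction k with
    | zero => exact ⟨by rw [pow_zero]; exact (Z2 K).one_mem, by simp, by simp⟩
    | succ k ih =>
      obtain ⟨h0, h1, h2⟩ := ih
      obtain ⟨k1, k2, k3, k4⟩ := mem_Z2.mp h0
      obtain ⟨l1, l2, l3, l4⟩ := mem_Z2.mp hz
      refine ⟨(Z2 K).pow_mem hz _, ?_, ?_⟩
      · rw [pow_succ, UG.mul_a]
        simp only [UG.d, h1, h2, k1, k2, k3, k4, l1, l2, l3, l4]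
        push_cast
        simp only [_root_.star_zero, _root_.MulZeroClass.mul_zero, _root_.sub_zero, _root_.mul_neg, _root_.MulZeroClass.zero_mul, _root_.neg_zero, _root_.add_zero]
        ring
      · rw [pow_succ, UG.mul_b]
        simp only [h2, k1, k2, l3, l4]
        push_cast
        simp
        ring
  obtain ⟨h0, h1, h2⟩ := key p
  obtain ⟨k1, k2, k3, k4⟩ := mem_Z2.mp h0
  rw [CharP.cast_eq_zero, zero_mul] at h1 h2
  exact UG.ext k1 k2 k3 h1 h2 k4

end field

/-! ### hull -/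

section hull
variable {Ω : Type*} [Group Ω] {E : Subgroup Ω} {Γ : Subgroup (MulAut E)}

theorem hull_inv (X : Subgroup Ω) : _root_.Cfsg.Agent.H756.PU.Inv Γ (hull Γ X) := by
  constructor
  · rw [hull, Subgroup.closure_le]
    rintro y ⟨γ, -, e, -, rfl⟩
    exact (γ e).2
  · intro γ hγ e he
    have key : ∀ x ∈ hull Γ X, ∀ hx : x ∈ E, ((γ ⟨x, hx⟩ : E) : Ω) ∈ hull Γ X := by
      intro x hx
      rw [hull] at hx
      induction hx using Subgroup.closure_induction with
      | mem x hx =>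
        obtain ⟨δ, hδ, f, hf, rfl⟩ := hx
        intro hxE
        refine Subgroup.subset_closure ⟨γ * δ, Γ.mul_mem hγ hδ, f, hf, ?_⟩
        rfl
      | one =>
        intro h1
        have : (⟨1, h1⟩ : E) = 1 := rfl
        rw [this, map_one]
        exact (hull Γ X).one_mem
      | mul x y hx hy ihx ihy =>
        intro hxy
        have hxE : x ∈ E := (show hull Γ X ≤ E by
          rw [hull, Subgroup.closure_le]
          rintro y ⟨γ, -, e, -, rfl⟩
          exact (γ e).2) hx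
        have hyE : y ∈ E := (show hull Γ X ≤ E by
          rw [hull, Subgroup.closure_le]
          rintro y ⟨γ, -, e, -, rfl⟩
          exact (γ e).2) hy
        have : (⟨x * y, hxy⟩ : E) = ⟨x, hxE⟩ * ⟨y, hyE⟩ := rfl
        rw [this, map_mul, Subgroup.coe_mul]
        exact (hull Γ X).mul_mem (ihx hxE) (ihy hyE)
      | inv x hx ihx =>
        intro hxi
        have hxE : x ∈ E := by simpa using hxi
        have : (⟨x⁻¹, hxi⟩ : E) = (⟨x, hxE⟩ : E)⁻¹ := rfl
        rw [this, map_inv, Subgroup.coe_inv]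
        exact (hull Γ X).inv_mem (ihx hxE)
    exact key e he e.2

theorem le_hull {X : Subgroup Ω} (hX : X ≤ E) : X ≤ hull Γ X := by
  intro x hx
  exact Subgroup.subset_closure ⟨1, Γ.one_mem, ⟨x, hX hx⟩, hx, rfl⟩

/-- commutator conditions pass to the hull: if `[E, X] ≤ N`, `N` invariant and normal in `E`, then `[E, hull X] ≤ N` -/
theorem com_hull {X N : Subgroup Ω} (hN : _root_.Cfsg.Agent.H756.PU.Inv Γ N) (hNn : ∀ e ∈ E, ∀ x ∈ N, e * x * e⁻¹ ∈ N)
    (h : ∀ e ∈ E, ∀ x ∈ X, x ∈ E → e * x * e⁻¹ * x⁻¹ ∈ N) : Com E (hull Γ X) N := by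
  intro e he m hm
  rw [hull] at hm
  revert e
  induction hm using Subgroup.closure_induction with
  | mem x hx =>
    obtain ⟨δ, hδ, f, hf, rfl⟩ := hx
    intro e he
    have h1 := h (δ⁻¹ ⟨e, he⟩ : E) (SetLike.coe_mem _) (f : Ω) hf f.2
    have h2 := hN.2 δ hδ ((δ⁻¹ ⟨e, he⟩ : E) * f * (δ⁻¹ ⟨e, he⟩ : E)⁻¹ * f⁻¹) h1
    have h3 : δ ((δ⁻¹ ⟨e, he⟩ : E) * f * (δ⁻¹ ⟨e, he⟩ : E)⁻¹ * f⁻¹) =
        (⟨e, he⟩ : E) * δ f * (⟨e, he⟩ : E)⁻¹ * (δ f)⁻¹ := by
      simp only [map_mul, map_inv, MulAut.apply_inv_self]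
    rw [h3] at h2
    exact h2
  | one => intro e he; simp [N.one_mem]
  | mul x y hx hy ihx ihy =>
    intro e he
    have e1 : e * (x * y) * e⁻¹ * (x * y)⁻¹ = (e * x * e⁻¹ * x⁻¹) * (x * (e * y * e⁻¹ * y⁻¹) * x⁻¹) := by group
    rw [e1]
    have hxE : x ∈ E := (hull_inv (Γ := Γ) X).1 hx
    exact N.mul_mem (ihx e he) (hNn x hxE _ (ihy e he))
  | inv x hx ihx =>
    intro e he
    have e1 : e * x⁻¹ * e⁻¹ * x⁻¹⁻¹ = x⁻¹ * (e * x * e⁻¹ * x⁻¹)⁻¹ * x⁻¹⁻¹ := by group
    rw [e1]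
    have hxE : x ∈ E := (hull_inv (Γ := Γ) X).1 hx
    exact hNn _ (E.inv_mem hxE) _ (N.inv_mem (ihx e he))

/-- the `p`-th powers of the elements of the hull -/
theorem pow_hull {X N : Subgroup Ω} (p : ℕ) (hN : _root_.Cfsg.Agent.H756.PU.Inv Γ N) (hNn : ∀ e ∈ E, ∀ x ∈ N, e * x * e⁻¹ ∈ N)
    (hc : Com E (hull Γ X) N) (h : ∀ x ∈ X, x ∈ E → x ^ p ∈ N) : ∀ m ∈ hull Γ X, m ^ p ∈ N := by
  classical
  have hle := (hull_inv (Γ := Γ) X).1
  have hnorm : (N.subgroupOf E).Normal := by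
    constructor
    intro x hx g
    rw [Subgroup.mem_subgroupOf] at hx ⊢
    exact hNn g g.2 x hx
  have key : ∀ m (hm : m ∈ hull Γ X), ((QuotientGroup.mk (⟨m, hle hm⟩ : E) : E ⧸ N.subgroupOf E)) ^ p = 1 := by
    intro m hm
    have hm' := hm
    rw [hull] at hm'
    induction hm' using Subgroup.closure_induction with
    | mem x hx =>
      obtain ⟨δ, hδ, f, hf, rfl⟩ := hx
      rw [← QuotientGroup.mk_pow, QuotientGroup.eq_one_iff, Subgroup.mem_subgroupOf]
      have := hN.2 δ hδ (f ^ p) (by simpa using h f hf f.2)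
      rw [map_pow] at this
      exact this
    | one =>
      rw [← QuotientGroup.mk_pow, QuotientGroup.eq_one_iff, Subgroup.mem_subgroupOf]
      simp [N.one_mem]
    | mul x y hx hy ihx ihy =>
      have e1 : (QuotientGroup.mk (⟨x * y, hle hm⟩ : E) : E ⧸ N.subgroupOf E) =
          QuotientGroup.mk (⟨x, hle hx⟩ : E) * QuotientGroup.mk (⟨y, hle hy⟩ : E) := rfl
      have hcomm : Commute (QuotientGroup.mk (⟨x, hle hx⟩ : E) : E ⧸ N.subgroupOf E)
          (QuotientGroup.mk (⟨y, hle hy⟩ : E)) := by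
        have h2 := hc x (hle hx) y hy
        have : (QuotientGroup.mk ((⟨x, hle hx⟩ : E) * ⟨y, hle hy⟩ * (⟨x, hle hx⟩ : E)⁻¹ * (⟨y, hle hy⟩ : E)⁻¹) :
            E ⧸ N.subgroupOf E) = 1 := by
          rw [QuotientGroup.eq_one_iff, Subgroup.mem_subgroupOf]
          exact h2
        rw [QuotientGroup.mk_mul, QuotientGroup.mk_mul, QuotientGroup.mk_mul, QuotientGroup.mk_inv,
          QuotientGroup.mk_inv, mul_inv_eq_one, mul_inv_eq_iff_eq_mul] at this
        exact this
      rw [e1, hcomm.mul_pow, ihx hx, ihy hy, one_mul]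
    | inv x hx ihx =>
      have e1 : (QuotientGroup.mk (⟨x⁻¹, hle hm⟩ : E) : E ⧸ N.subgroupOf E) =
          (QuotientGroup.mk (⟨x, hle hx⟩ : E))⁻¹ := rfl
      rw [e1, inv_pow, ihx hx, inv_one]
  intro m hm
  have := key m hm
  rw [← QuotientGroup.mk_pow, QuotientGroup.eq_one_iff, Subgroup.mem_subgroupOf] at this
  exact this

end hull

end Cfsg.Agent.H647.PU
end

-- part: H595/PU/Pos
section
/-!
# S5258, task PU-POS (helper595): every `p'`-group of automorphisms of `UG K` is conjugate into `TT K`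
-/

set_option autoImplicit false

namespace Cfsg.Agent.H595.PU

open Cfsg Cfsg.FusionSystem Cfsg.Agent.H756.PU Cfsg.Agent.H767.PU

universe u

variable {K : Type u} [Field K] [StarRing K] {p n : ℕ}

/-! ### the field -/

theorem exists_trace_ne (h : HypK K p n) : ∃ x : K, x + star x ≠ 0 := by
  classical
  by_contra hcon
  push Not at hcon
  have := h.fin
  have := Fintype.ofFinite K
  have hcard : Fintype.card K = (p ^ n) ^ 2 := by rw [← Nat.card_eq_fintype_card, h.card]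
  have hq : 2 ≤ p ^ n := by
    calc 2 ≤ p := h.pp.two_le
      _ = p ^ 1 := (pow_one p).symm
      _ ≤ p ^ n := Nat.pow_le_pow_right h.pp.pos h.hn
  let P : Polynomial K := Polynomial.X ^ (p ^ n) + Polynomial.X
  have hdeg : P.natDegree = p ^ n := by
    have h1 : (Polynomial.X ^ (p ^ n) : Polynomial K).natDegree = p ^ n := Polynomial.natDegree_X_pow _
    have h2 : (Polynomial.X : Polynomial K).natDegree < (Polynomial.X ^ (p ^ n) : Polynomial K).natDegree := by
      rw [h1, Polynomial.natDegree_X]; omega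
    rw [Polynomial.natDegree_add_eq_left_of_natDegree_lt h2, h1]
  have hP0 : P ≠ 0 := by
    intro h0
    rw [h0, Polynomial.natDegree_zero] at hdeg
    omega
  have h1 : Fintype.card K ≤ P.natDegree := by
    have h3 : (Finset.univ : Finset K) ⊆ P.roots.toFinset := by
      intro x _
      rw [Multiset.mem_toFinset, Polynomial.mem_roots hP0, Polynomial.IsRoot.def, Polynomial.eval_add,
        Polynomial.eval_pow, Polynomial.eval_X, ← h.star_eq, add_comm]
      exact hcon x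
    calc Fintype.card K = (Finset.univ : Finset K).card := rfl
      _ ≤ P.roots.toFinset.card := Finset.card_le_card h3
      _ ≤ Multiset.card P.roots := Multiset.toFinset_card_le _
      _ ≤ P.natDegree := Polynomial.card_roots' P
  rw [hcard, hdeg] at h1
  nlinarith only [hq, h1]

theorem exists_om (h : HypK K p n) : ∃ w : K, w + star w = 1 := by
  obtain ⟨x, hx⟩ := exists_trace_ne h
  refine ⟨x / (x + star x), ?_⟩
  have h1 : star (x / (x + star x)) = star x / (x + star x) := by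
    rw [star_div₀, star_add, star_star, add_comm (star x) x]
  rw [h1, ← add_div, div_self hx]

theorem exists_mv (h : HypK K p n) : ∃ x : K, star x ≠ x := by
  by_contra hcon
  push Not at hcon
  classical
  have := h.fin
  have := Fintype.ofFinite K
  have hcard : Fintype.card K = (p ^ n) ^ 2 := by rw [← Nat.card_eq_fintype_card, h.card]
  have hq : 2 ≤ p ^ n := by
    calc 2 ≤ p := h.pp.two_le
      _ = p ^ 1 := (pow_one p).symm
      _ ≤ p ^ n := Nat.pow_le_pow_right h.pp.pos h.hn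
  obtain ⟨g, hg⟩ := IsCyclic.exists_generator (α := Kˣ)
  have h3 : g ^ (p ^ n - 1) = 1 := by
    have h4 : (g : K) ^ (p ^ n) = g := by rw [← h.star_eq, hcon]
    apply Units.ext
    rw [Units.val_pow_eq_pow_val, Units.val_one]
    apply mul_right_cancel₀ g.ne_zero
    rw [one_mul, ← pow_succ, Nat.sub_add_cancel (by omega), h4]
  have h4 : Fintype.card Kˣ ∣ p ^ n - 1 := by
    rw [← Nat.card_eq_fintype_card, ← orderOf_eq_card_of_forall_mem_zpowers hg]
    exact orderOf_dvd_of_pow_eq_one h3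
  rw [Fintype.card_units, hcard] at h4
  have h5 := Nat.le_of_dvd (by omega) h4
  have h6 : (p ^ n) ^ 2 ≤ p ^ n := by omega
  nlinarith only [hq, h6]

theorem exists_ka (h : HypK K p n) : ∃ k : K, k ≠ 0 ∧ k + star k = 0 := by
  obtain ⟨x, hx⟩ := exists_mv h
  refine ⟨x - star x, sub_ne_zero.2 (Ne.symm hx), ?_⟩
  rw [star_sub, star_star]
  ring

/-! ### elements -/

/-- the element with the given coordinates -/
def mk (w : K) (hw : w + star w = 1) (r u1 u2 b : K) : UG K where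
  r := r
  u1 := u1
  u2 := u2
  a := - w * (u1 * star u1)
  b := b
  c := - w * (u2 * star u2)
  ha := by
    simp only [star_mul', star_neg, star_star]
    linear_combination (-(u1 * star u1)) * hw
  hc := by
    simp only [star_mul', star_neg, star_star]
    linear_combination (-(u2 * star u2)) * hw

/-- elements of `V` -/
def mkV (a b c : K) (ha : a + star a = 0) (hc : c + star c = 0) : UG K where
  r := 0
  u1 := 0
  u2 := 0
  a := a
  b := b
  c := c
  ha := by rw [zero_mul, add_zero, ha]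
  hc := by rw [zero_mul, add_zero, hc]

/-! ### characteristic subgroups -/

/-- all automorphisms fix `Q` -/
def Ch (Q : Subgroup (UG K)) : Prop := ∀ (α : MulAut (UG K)) (g : UG K), g ∈ Q → α g ∈ Q

theorem Ch.iff {Q : Subgroup (UG K)} (h : Ch Q) (α : MulAut (UG K)) (g : UG K) : α g ∈ Q ↔ g ∈ Q := by
  refine ⟨fun hg => ?_, h α g⟩
  have := h α⁻¹ _ hg
  have e : α⁻¹ (α g) = g := α.symm_apply_apply g
  rwa [e] at this

theorem ch_of_map {Q : Subgroup (UG K)} (h : ∀ α : MulAut (UG K), Q.map α.toMonoidHom = Q) : Ch Q := by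
  intro α g hg
  rw [← h α]
  exact ⟨g, hg, rfl⟩

theorem ch_VV (h : HypK K p n) (h2 : Ch (Q2 K)) : Ch (VV K) := by
  obtain ⟨w, hw⟩ := exists_om h
  have key : ∀ g : UG K, g ∈ VV K ↔ g ∈ Q2 K ∧ ∀ x ∈ Q2 K, g * x = x * g := by
    intro g
    constructor
    · rintro ⟨h1, h3, h4⟩
      refine ⟨h1, fun x hx => ?_⟩
      have hx' : x.r = 0 := hx
      rw [commute_iff, h1, h3, h4, hx']
      simp only [_root_.MulZeroClass.zero_mul, _root_.MulZeroClass.mul_zero, _root_.star_zero, _root_.sub_self, _root_.add_zero, _root_.and_self]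
    · rintro ⟨h1, h3⟩
      have h1' : g.r = 0 := h1
      have e1 := (commute_iff _ _).1 (h3 (mk w hw 0 0 1 0) rfl)
      have e2 := (commute_iff _ _).1 (h3 (mk w hw 0 1 0 0) rfl)
      have f1 := e1.2.2.1
      have f2 := e2.2.2.1
      simp only [mk, h1', star_one, star_zero, zero_mul, mul_zero, mul_one, zero_sub, one_mul, neg_zero, sub_zero, neg_eq_zero,
        zero_eq_neg] at f1 f2
      have f3 : g.u2 = 0 := by
        have := congrArg star f2
        simpa only [_root_.star_star, _root_.star_zero] using this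
      exact ⟨h1', f1, f3⟩
  intro α g hg
  rw [key] at hg ⊢
  refine ⟨h2 α g hg.1, fun x hx => ?_⟩
  obtain ⟨y, rfl⟩ := α.surjective x
  have hy : y ∈ Q2 K := (h2.iff α y).1 hx
  rw [← map_mul, ← map_mul, hg.2 y hy]

theorem ch_Z2 (h1 : Ch (Q1 K)) (hV : Ch (VV K)) : Ch (Z2 K) := by
  intro α g hg
  have hg' := mem_Z2.1 hg
  have e1 := h1 α g (Z2_le_Q1 hg)
  have e2 := hV α g (Z2_le_VV hg)
  exact ⟨e2.1, e2.2.1, e2.2.2, e1.2⟩

theorem mem_QV_iff (g : UG K) : g ∈ QV K ↔ ∃ x ∈ Q1 K, ∃ y ∈ VV K, x * y = g := by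
  constructor
  · intro hg
    have hg' : g.u2 = 0 := hg
    have hc := g.hc
    rw [hg', zero_mul, add_zero] at hc
    refine ⟨g * (mkV 0 0 g.c (by simp) hc)⁻¹, ?_, mkV 0 0 g.c (by simp) hc, ?_, by group⟩
    · constructor
      · simp [mkV, hg']
      · simp only [mkV, hg', hc, _root_.Cfsg.Agent.H756.PU.UG.mul_c, _root_.Cfsg.Agent.H756.PU.UG.inv_c, _root_.Cfsg.Agent.H756.PU.UG.inv_u2, _root_.neg_zero, _root_.star_zero, _root_.MulZeroClass.mul_zero, _root_.sub_self]
    · exact ⟨rfl, rfl, rfl⟩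
  · rintro ⟨x, hx, y, hy, rfl⟩
    have hx' := mem_Q1.1 hx
    have hy' := mem_VV.1 hy
    show (x * y).u2 = 0
    rw [UG.mul_u2, hx'.1, hy'.2.2, add_zero]

theorem ch_QV (h1 : Ch (Q1 K)) (hV : Ch (VV K)) : Ch (QV K) := by
  intro α g hg
  rw [mem_QV_iff] at hg ⊢
  obtain ⟨x, hx, y, hy, rfl⟩ := hg
  exact ⟨α x, h1 α x hx, α y, hV α y hy, (map_mul α x y).symm⟩

theorem ch_YY (h2 : Ch (Q2 K)) (hV : Ch (QV K)) : Ch (YY K) := by
  intro α g hg
  exact ⟨h2 α g (YY_le_Q2 hg), hV α g (YY_le_QV hg)⟩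

theorem ch_ZS (h : HypK K p n) (hZ : Ch (Z2 K)) : Ch (ZS K) := by
  obtain ⟨w, hw⟩ := exists_om h
  obtain ⟨m, hm⟩ := exists_mv h
  have key : ∀ g : UG K, g ∈ ZS K ↔ g ∈ Z2 K ∧ ∀ x : UG K, g * x = x * g := by
    intro g
    constructor
    · intro hg
      refine ⟨ZS_le_Z2 hg, fun x => ?_⟩
      obtain ⟨h1, h3, h4, h5, h6⟩ := hg
      rw [commute_iff, h1, h3, h4, h6]
      simp only [UG.d, h3, h4, h5, _root_.MulZeroClass.zero_mul, _root_.MulZeroClass.mul_zero, _root_.star_zero, _root_.sub_self, _root_.add_zero, _root_.neg_zero, _root_.and_self]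
    · rintro ⟨⟨h1, h3, h4, h5⟩, h6⟩
      refine ⟨h1, h3, h4, ?_, h5⟩
      have e1 := ((commute_iff _ _).1 (h6 (mk w hw 1 0 0 0))).2.2.2
      have e2 := ((commute_iff _ _).1 (h6 (mk w hw m 0 0 0))).2.2.2
      simp only [mk, h1, h3, h4, h5, UG.d, star_one, star_zero, zero_mul, mul_zero, mul_one, zero_sub, one_mul,
        neg_zero, sub_zero, add_zero, zero_add] at e1 e2
      have e3 : (star m - m) * g.b = 0 := by linear_combination m * e1 - e2
      exact (mul_eq_zero.1 e3).resolve_left (sub_ne_zero.2 hm)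
  intro α g hg
  rw [key] at hg ⊢
  refine ⟨hZ α g hg.1, fun x => ?_⟩
  obtain ⟨y, rfl⟩ := α.surjective x
  rw [← map_mul, ← map_mul, hg.2 y]

/-! ### the defect of an automorphism -/

/-- the counting argument: a coordinate `χ` additive on `P` and preserved by `α` vanishes on `x⁻¹ α x` -/
theorem defect {P : Subgroup (UG K)} {χ : UG K → K} {α : MulAut (UG K)}
    (hχ : ∀ x ∈ P, ∀ y ∈ P, χ (x * y) = χ x + χ y) (hP : ∀ x ∈ P, α x ∈ P)
    (hα : ∀ x ∈ P, χ (α x) = χ x) (h1 : χ 1 = 0) {x : UG K} (hx : x⁻¹ * α x ∈ P) {m : ℕ}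
    (hm : α ^ m = 1) (hm0 : (m : K) ≠ 0) : χ (x⁻¹ * α x) = 0 := by
  have key : ∀ j : ℕ, x⁻¹ * (α ^ j) x ∈ P ∧ χ (x⁻¹ * (α ^ j) x) = j * χ (x⁻¹ * α x) := by
    intro j
    induction j with
    | zero =>
      have e : x⁻¹ * (α ^ 0) x = 1 := by
        rw [pow_zero, MulAut.one_apply, inv_mul_cancel]
      rw [e]
      exact ⟨P.one_mem, by rw [h1, Nat.cast_zero, zero_mul]⟩
    | succ j ih =>
      have e : x⁻¹ * (α ^ (j + 1)) x = (x⁻¹ * α x) * α (x⁻¹ * (α ^ j) x) := by
        rw [pow_succ', MulAut.mul_apply, map_mul, map_inv]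
        group
      rw [e]
      refine ⟨P.mul_mem hx (hP _ ih.1), ?_⟩
      rw [hχ _ hx _ (hP _ ih.1), hα _ ih.1, ih.2]
      push_cast
      ring
  have h2 := (key m).2
  rw [hm, MulAut.one_apply, inv_mul_cancel, h1] at h2
  exact (mul_eq_zero.1 h2.symm).resolve_left hm0

/-! ### the coordinates of an automorphism -/

/-- the hypotheses of this section: the chain is characteristic -/
structure AllCh (K : Type u) [Field K] [StarRing K] : Prop where
  c2 : Ch (Q2 K)
  cQV : Ch (QV K)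
  cY : Ch (YY K)
  cV : Ch (VV K)
  cZ2 : Ch (Z2 K)
  cZ : Ch (ZS K)

theorem allCh (h : HypK K p n) (hTI : StTI.{u}) : AllCh K := by
  have c1 : Ch (Q1 K) := ch_of_map (hTI h (Q1 K) (Or.inl rfl)).2.2.2
  have c2 : Ch (Q2 K) := ch_of_map (hTI h (Q2 K) (Or.inr rfl)).2.2.2
  have cV := ch_VV h c2
  have cZ2 := ch_Z2 c1 cV
  have cQV := ch_QV c1 cV
  exact ⟨c2, cQV, ch_YY c2 cQV, cV, cZ2, ch_ZS h cZ2⟩

theorem r_congr (hc : AllCh K) (α : MulAut (UG K)) {x y : UG K} (h : x.r = y.r) : (α x).r = (α y).r := by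
  have h1 : x⁻¹ * y ∈ Q2 K := by
    show (x⁻¹ * y).r = 0
    simp [h]
  have h2 : (α (x⁻¹ * y)).r = 0 := hc.c2 α _ h1
  rw [map_mul, map_inv, UG.mul_r, UG.inv_r] at h2
  linear_combination -h2

theorem u2_congr (hc : AllCh K) (α : MulAut (UG K)) {x y : UG K} (h : x.u2 = y.u2) : (α x).u2 = (α y).u2 := by
  have h1 : x⁻¹ * y ∈ QV K := by
    show (x⁻¹ * y).u2 = 0
    simp [h]
  have h2 : (α (x⁻¹ * y)).u2 = 0 := hc.cQV α _ h1
  rw [map_mul, map_inv, UG.mul_u2, UG.inv_u2] at h2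
  linear_combination -h2

theorem u1_congr (hc : AllCh K) (α : MulAut (UG K)) {x y : UG K} (hx : x ∈ YY K) (hy : y ∈ YY K)
    (h : x.u1 = y.u1) : (α x).u1 = (α y).u1 := by
  have hx' := mem_YY.1 hx
  have hy' := mem_YY.1 hy
  have h1 : x⁻¹ * y ∈ VV K := by
    refine ⟨?_, ?_, ?_⟩
    · simp [hx'.1, hy'.1]
    · simp [hx'.1, hy'.1, h]
    · simp [hx'.2, hy'.2]
  have h2 : (α (x⁻¹ * y)).u1 = 0 := (hc.cV α _ h1).2.1
  have ax := mem_YY.1 (hc.cY α x hx)
  have ay := mem_YY.1 (hc.cY α y hy)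
  rw [map_mul, map_inv, UG.mul_u1, UG.inv_u1, UG.inv_r, ax.1, ax.2] at h2
  linear_combination -h2

theorem c_congr (hc : AllCh K) (α : MulAut (UG K)) {x y : UG K} (hx : x ∈ VV K) (hy : y ∈ VV K)
    (h : x.c = y.c) : (α x).c = (α y).c := by
  have hx' := mem_VV.1 hx
  have hy' := mem_VV.1 hy
  have hcx := x.hc
  rw [hx'.2.2, zero_mul, add_zero] at hcx
  have h1 : x⁻¹ * y ∈ Z2 K := by
    refine ⟨?_, ?_, ?_, ?_⟩
    · simp [hx'.1, hy'.1]
    · simp [hx'.1, hx'.2.1, hy'.2.1]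
    · simp [hx'.2.2, hy'.2.2]
    · rw [UG.mul_c, UG.inv_c, UG.inv_u2, hx'.2.2, ← h]
      linear_combination hcx
  have h2 : (α (x⁻¹ * y)).c = 0 := (hc.cZ2 α _ h1).2.2.2
  have ax := mem_VV.1 (hc.cV α x hx)
  have ay := mem_VV.1 (hc.cV α y hy)
  have hax := (α x).hc
  rw [ax.2.2, zero_mul, add_zero] at hax
  rw [map_mul, map_inv, UG.mul_c, UG.inv_c, UG.inv_u2, ax.2.2] at h2
  linear_combination -h2 + hax

theorem b_congr (hc : AllCh K) (α : MulAut (UG K)) {x y : UG K} (hx : x ∈ Z2 K) (hy : y ∈ Z2 K)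
    (h : x.b = y.b) : (α x).b = (α y).b := by
  have hx' := mem_Z2.1 hx
  have hy' := mem_Z2.1 hy
  have h1 : x⁻¹ * y ∈ ZS K := by
    refine ⟨?_, ?_, ?_, ?_, ?_⟩
    · simp [hx'.1, hy'.1]
    · simp [hx'.1, hx'.2.1, hy'.2.1]
    · simp [hx'.2.2.1, hy'.2.2.1]
    · rw [UG.mul_b, UG.inv_b, UG.inv_r, UG.inv_u1]
      simp only [UG.d, hx'.1, hx'.2.1, hx'.2.2.1, hx'.2.2.2, h, _root_.star_zero, _root_.MulZeroClass.mul_zero, _root_.sub_zero, _root_.star_neg, _root_.star_star, _root_.neg_add_cancel, _root_.neg_zero, _root_.MulZeroClass.zero_mul, _root_.add_zero, _root_.sub_self]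
    · simp only [hx'.2.2.1, hx'.2.2.2, hy'.2.2.2, _root_.Cfsg.Agent.H756.PU.UG.mul_c, _root_.Cfsg.Agent.H756.PU.UG.inv_c, _root_.star_zero, _root_.add_zero, _root_.Cfsg.Agent.H756.PU.UG.inv_u2, _root_.neg_zero, _root_.MulZeroClass.zero_mul, _root_.sub_self]
  have h2 : (α (x⁻¹ * y)).b = 0 := (hc.cZ α _ h1).2.2.2.1
  have ax := mem_Z2.1 (hc.cZ2 α x hx)
  have ay := mem_Z2.1 (hc.cZ2 α y hy)
  rw [map_mul, map_inv, UG.mul_b, UG.inv_b, UG.inv_r, UG.inv_u1] at h2
  simp only [UG.d, ax.1, ax.2.1, ax.2.2.1, ax.2.2.2, _root_.star_zero, _root_.MulZeroClass.mul_zero, _root_.sub_zero, _root_.star_neg, _root_.star_star, _root_.neg_zero, _root_.MulZeroClass.zero_mul, _root_.add_zero] at h2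
  linear_combination -h2

/-- the automorphisms trivial on `S/Y` -/
def RR (hc : AllCh K) : Subgroup (MulAut (UG K)) where
  carrier := {α | ∀ x, (α x).r = x.r ∧ (α x).u2 = x.u2}
  one_mem' := fun x => ⟨rfl, rfl⟩
  mul_mem' := by
    intro α β ha hb x
    rw [MulAut.mul_apply]
    exact ⟨((ha _).1).trans (hb x).1, ((ha _).2).trans (hb x).2⟩
  inv_mem' := by
    intro α ha x
    have h1 := ha (α⁻¹ x)
    have e : α (α⁻¹ x) = x := α.apply_symm_apply x
    rw [e] at h1
    exact ⟨h1.1.symm, h1.2.symm⟩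

theorem RR_normal (hc : AllCh K) : (RR hc).Normal := by
  constructor
  intro α ha γ x
  have e : γ (γ⁻¹ x) = x := γ.apply_symm_apply x
  have h1 := ha (γ⁻¹ x)
  rw [MulAut.mul_apply, MulAut.mul_apply]
  refine ⟨?_, ?_⟩
  · rw [r_congr hc γ h1.1, e]
  · rw [u2_congr hc γ h1.2, e]

/-- a `p'`-element of `RR` is trivial -/
theorem RR_trivial (h : HypK K p n) (hc : AllCh K) {α : MulAut (UG K)} (ha : α ∈ RR hc) {m : ℕ}
    (hm : α ^ m = 1) (hpm : ¬ p ∣ m) : α = 1 := by
  obtain ⟨w, hw⟩ := exists_om h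
  obtain ⟨k, hk0, hk⟩ := exists_ka h
  have hm0 : (m : K) ≠ 0 := by
    have := h.char
    intro h0
    exact hpm ((CharP.cast_eq_zero_iff K p m).1 h0)
  have ha' : ∀ x, (α x).r = x.r ∧ (α x).u2 = x.u2 := ha
  -- on `Y/V`
  have s1 : ∀ y ∈ YY K, (α y).u1 = y.u1 := by
    intro y hy
    let x1 : UG K := mk w hw y.u1 0 0 0
    let x2 : UG K := mk w hw 0 0 1 0
    have e1 : (x1 * x2 * x1⁻¹ * x2⁻¹).u1 = y.u1 := by
      rw [comm_u1]; simp [x1, x2, mk]
    have e2 : x1 * x2 * x1⁻¹ * x2⁻¹ ∈ YY K := ⟨comm_r _ _, comm_u2 _ _⟩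
    rw [← u1_congr hc α e2 hy e1, map_mul, map_mul, map_mul, map_inv, map_inv, comm_u1, (ha' x1).1,
      (ha' x2).1, (ha' x1).2, (ha' x2).2]
    simp [x1, x2, mk]
  have d0 : ∀ x, x⁻¹ * α x ∈ YY K := by
    intro x
    refine ⟨?_, ?_⟩
    · rw [UG.mul_r, UG.inv_r, (ha' x).1, neg_add_cancel]
    · rw [UG.mul_u2, UG.inv_u2, (ha' x).2, neg_add_cancel]
  have d1 : ∀ x, x⁻¹ * α x ∈ VV K := by
    intro x
    have := defect (P := YY K) (χ := UG.u1) (α := α) (fun x hx y hy => by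
      rw [UG.mul_u1, (mem_YY.1 hx).1, zero_mul, add_zero]) (hc.cY α) s1 rfl (d0 x) hm hm0
    exact ⟨(d0 x).1, this, (d0 x).2⟩
  -- on `V/Z2`
  have s2 : ∀ y ∈ VV K, (α y).c = y.c := by
    intro y hy
    have hyc := y.hc
    rw [(mem_VV.1 hy).2.2, zero_mul, add_zero] at hyc
    let x1 : UG K := mk w hw 0 0 1 0
    let x2 : UG K := mk w hw 0 0 (w * y.c) 0
    have e0 : star y.c = - y.c := by linear_combination hyc
    have e3 : w * y.c * star (1 : K) - 1 * star (w * y.c) = y.c := by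
      rw [star_one, star_mul', e0]
      linear_combination y.c * hw
    have e1 : (x1 * x2 * x1⁻¹ * x2⁻¹).c = y.c := by
      rw [comm_c]; exact e3
    have e2 : x1 * x2 * x1⁻¹ * x2⁻¹ ∈ VV K := ⟨comm_r _ _, by rw [comm_u1]; simp only [x1, x2, mk, _root_.star_zero, _root_.MulZeroClass.mul_zero, _root_.star_one, _root_.mul_one, _root_.star_mul', _root_.neg_mul, _root_.MulZeroClass.zero_mul, _root_.sub_self], comm_u2 _ _⟩
    rw [← c_congr hc α e2 hy e1, map_mul, map_mul, map_mul, map_inv, map_inv, comm_c, (ha' x1).2, (ha' x2).2]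
    exact e3
  have d2 : ∀ x, x⁻¹ * α x ∈ Z2 K := by
    intro x
    have := defect (P := VV K) (χ := UG.c) (α := α) (fun x hx y hy => by
      rw [UG.mul_c, (mem_VV.1 hx).2.2, zero_mul, sub_zero]) (hc.cV α) s2 rfl (d1 x) hm hm0
    exact ⟨(d1 x).1, (d1 x).2.1, (d1 x).2.2, this⟩
  -- on `Z2/Z`
  have s3 : ∀ y ∈ Z2 K, (α y).b = y.b := by
    intro y hy
    let x1 : UG K := mk w hw (y.b * k⁻¹) 0 0 0
    let x2 : UG K := mkV 0 0 k (by simp) hk
    have hx2 : x2 ∈ VV K := ⟨rfl, rfl, rfl⟩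
    have ax2 := mem_VV.1 (hc.cV α x2 hx2)
    have e1 : (x1 * x2 * x1⁻¹ * x2⁻¹).b = y.b := by
      rw [comm_b]; simp [x1, x2, mk, mkV, hk0]
    have e2 : x1 * x2 * x1⁻¹ * x2⁻¹ ∈ Z2 K := ⟨comm_r _ _, by rw [comm_u1]; simp [x1, x2, mk, mkV], comm_u2 _ _,
      by rw [comm_c]; simp [x1, x2, mk, mkV]⟩
    rw [← b_congr hc α e2 hy e1, map_mul, map_mul, map_mul, map_inv, map_inv, comm_b, (ha' x1).1,
      (ha' x1).2, s2 x2 hx2, ax2.1, ax2.2.1, ax2.2.2]
    simp [x1, x2, mk, mkV, hk0]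
  have d3 : ∀ x, x⁻¹ * α x ∈ ZS K := by
    intro x
    have := defect (P := Z2 K) (χ := UG.b) (α := α) (fun x hx y hy => by
      rw [UG.mul_b, (mem_Z2.1 hx).1, (mem_Z2.1 hx).2.1]; ring) (hc.cZ2 α) s3 rfl (d2 x) hm hm0
    exact ⟨(d2 x).1, (d2 x).2.1, (d2 x).2.2.1, this, (d2 x).2.2.2⟩
  -- on `Z`
  have s4 : ∀ y ∈ ZS K, (α y).a = y.a := by
    intro y hy
    have hya := y.ha
    rw [(mem_ZS.1 hy).2.1, zero_mul, add_zero] at hya
    have e0 : star y.a = - y.a := by linear_combination hya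
    let x1 : UG K := mk w hw 1 0 0 0
    let x2 : UG K := mkV 0 (w * y.a) 0 (by simp) (by simp)
    have hx2 : x2 ∈ Z2 K := ⟨rfl, rfl, rfl, rfl⟩
    have ax2 := mem_Z2.1 (hc.cZ2 α x2 hx2)
    have e3 : - star (w * y.a) + w * y.a = y.a := by
      rw [star_mul', e0]
      linear_combination y.a * hw
    have e1 : (x1 * x2 * x1⁻¹ * x2⁻¹).a = y.a := by
      rw [comm_a, d_def, d_def]
      simpa only [x1, x2, mk, mkV, _root_.star_zero, _root_.MulZeroClass.mul_zero, _root_.star_mul', _root_.sub_zero, _root_.mul_neg, _root_.one_mul, _root_.neg_zero, _root_.sub_self, _root_.star_one, _root_.mul_one, _root_.add_zero] using e3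
    have e2 : x1 * x2 * x1⁻¹ * x2⁻¹ ∈ ZS K := ⟨comm_r _ _, by rw [comm_u1]; simp [x1, x2, mk, mkV], comm_u2 _ _,
      by rw [comm_b]; simp [x1, x2, mk, mkV], by rw [comm_c]; simp [x1, x2, mk, mkV]⟩
    have e4 : x1 * x2 * x1⁻¹ * x2⁻¹ = y := by
      have hy' := mem_ZS.1 hy
      ext
      · rw [comm_r, hy'.1]
      · rw [e2.2.1, hy'.2.1]
      · rw [comm_u2, hy'.2.2.1]
      · exact e1
      · rw [e2.2.2.2.1, hy'.2.2.2.1]
      · rw [e2.2.2.2.2, hy'.2.2.2.2]
    rw [← e4, map_mul, map_mul, map_mul, map_inv, map_inv, comm_a, comm_a, d_def, d_def, d_def, d_def, (ha' x1).1,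
      (ha' x1).2, s3 x2 hx2, ax2.1, ax2.2.1, ax2.2.2.1, ax2.2.2.2]
    simp only [x1, x2, mk, mkV, _root_.star_zero, _root_.MulZeroClass.mul_zero, _root_.star_mul', _root_.sub_zero, _root_.mul_neg, _root_.one_mul, _root_.MulZeroClass.zero_mul, _root_.neg_zero, _root_.star_one, _root_.mul_one, _root_.add_zero, _root_.sub_self]
  ext1 x
  have d4 : (x⁻¹ * α x).a = 0 := defect (P := ZS K) (χ := UG.a) (α := α) (fun x hx y hy => by
    rw [UG.mul_a, (mem_ZS.1 hx).1, (mem_ZS.1 hx).2.1, star_zero]; ring) (hc.cZ α) s4 rfl (d3 x) hm hm0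
  have hd := mem_ZS.1 (d3 x)
  have e : x⁻¹ * α x = 1 := by
    ext
    · exact hd.1
    · exact hd.2.1
    · exact hd.2.2.1
    · exact d4
    · exact hd.2.2.2.1
    · exact hd.2.2.2.2
  rw [MulAut.one_apply]
  exact (inv_mul_eq_one.1 e).symm

/-! ### `Aut (UG K) = RR · TT` -/

theorem finite_mulAut (h : HypK K p n) (hG : StGrp.{u}) : Finite (MulAut (UG K)) := by
  have h1 := (hG h).1
  have : Finite (UG K) := Nat.finite_of_card_ne_zero (by
    rw [h1]
    exact pow_ne_zero _ (pow_ne_zero _ h.pp.ne_zero))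
  exact Finite.of_injective (fun α : MulAut (UG K) => (α : UG K → UG K)) (fun α β hab => by
    ext1 x
    exact congrFun hab x)

/-- every automorphism agrees on `S/Y` with an element of `TT` -/
theorem exists_tor (h : HypK K p n) (hc : AllCh K) (hG : StGrp.{u}) (α : MulAut (UG K)) :
    ∃ β ∈ TT K, α * β⁻¹ ∈ RR hc := by
  obtain ⟨w, hw⟩ := exists_om h
  have hfin := h.fin
  let f : K → K := fun t => (α (mk w hw t 0 0 0)).r
  let g : K → K := fun t => (α (mk w hw 0 0 t 0)).u2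
  let k : K → K := fun t => (α (mk w hw 0 t 0 0)).u1
  have hf : ∀ x, (α x).r = f x.r := fun x => r_congr hc α rfl
  have hg : ∀ x, (α x).u2 = g x.u2 := fun x => u2_congr hc α rfl
  have hk : ∀ x ∈ YY K, (α x).u1 = k x.u1 := fun x hx => u1_congr hc α hx ⟨rfl, rfl⟩ rfl
  have fadd : ∀ s t, f (s + t) = f s + f t := by
    intro s t
    have := hf (mk w hw s 0 0 0 * mk w hw t 0 0 0)
    rw [map_mul, UG.mul_r, hf, hf, UG.mul_r] at this
    exact this.symm
  have gadd : ∀ s t, g (s + t) = g s + g t := by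
    intro s t
    have := hg (mk w hw 0 0 s 0 * mk w hw 0 0 t 0)
    rw [map_mul, UG.mul_u2, hg, hg, UG.mul_u2] at this
    exact this.symm
  have f0 : f 0 = 0 := by
    have := fadd 0 0
    rw [add_zero] at this
    linear_combination -this
  have g0 : g 0 = 0 := by
    have := gadd 0 0
    rw [add_zero] at this
    linear_combination -this
  have hcom : ∀ s t, k (s * t) = f s * g t := by
    intro s t
    let x1 : UG K := mk w hw s 0 0 0
    let x2 : UG K := mk w hw 0 0 t 0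
    have e1 : (x1 * x2 * x1⁻¹ * x2⁻¹).u1 = s * t := by
      rw [comm_u1]; simp only [x1, x2, mk, _root_.star_zero, _root_.MulZeroClass.mul_zero, _root_.neg_mul, _root_.sub_zero]
    have e2 : x1 * x2 * x1⁻¹ * x2⁻¹ ∈ YY K := ⟨comm_r _ _, comm_u2 _ _⟩
    rw [← e1, ← hk _ e2, map_mul, map_mul, map_mul, map_inv, map_inv, comm_u1, hf, hf, hg, hg]
    have a1 : x1.r = s := rfl
    have a2 : x2.u2 = t := rfl
    have a3 : x2.r = 0 := rfl
    rw [a1, a2, a3, f0]
    ring
  have f1 : f 1 ≠ 0 := by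
    intro h0
    have h1 : α (mk w hw 1 0 0 0) ∈ Q2 K := h0
    have h2 : (mk w hw (1 : K) 0 0 0).r = 0 := (hc.c2.iff α _).1 h1
    exact one_ne_zero h2
  have g1 : g 1 ≠ 0 := by
    intro h0
    have h1 : α (mk w hw 0 0 1 0) ∈ QV K := h0
    have h2 : (mk w hw (0 : K) 0 1 0).u2 = 0 := (hc.cQV.iff α _).1 h1
    exact one_ne_zero h2
  -- the field automorphism
  have hgf : ∀ t, f 1 * g t = f t * g 1 := by
    intro t
    rw [← hcom, ← hcom, one_mul, mul_one]
  have hff : ∀ s t, f (s * t) * f 1 = f s * f t := by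
    intro s t
    apply mul_right_cancel₀ g1
    have h1 : f (s * t) * g 1 = f s * g t := by
      rw [← hcom, ← hcom, mul_one]
    linear_combination f 1 * h1 + f s * hgf t
  let φ : K →+* K :=
    { toFun := fun t => f t * (f 1)⁻¹
      map_one' := mul_inv_cancel₀ f1
      map_mul' := by
        intro s t
        field_simp
        linear_combination hff s t
      map_zero' := by rw [f0, zero_mul]
      map_add' := by
        intro s t
        rw [fadd, add_mul] }
  have hbij : Function.Bijective φ := Finite.injective_iff_bijective.1 φ.injective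
  let τ : K ≃+* K := RingEquiv.ofBijective φ hbij
  have hτ : ∀ t, τ t = f t * (f 1)⁻¹ := fun t => rfl
  obtain ⟨β, hβ⟩ := (hG h).2.2.1 (f 1 * g 1) (g 1) τ (mul_ne_zero f1 g1) g1
  refine ⟨β, Subgroup.subset_closure ⟨_, _, _, hβ⟩, ?_⟩
  have e1 : ∀ x, (α x).r = (β x).r := by
    intro x
    rw [hf, hβ.r, hτ]
    field_simp
  have e2 : ∀ x, (α x).u2 = (β x).u2 := by
    intro x
    rw [hg, hβ.u2, hτ]
    field_simp
    linear_combination hgf x.u2
  intro x
  have e : β (β⁻¹ x) = x := β.apply_symm_apply x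
  rw [MulAut.mul_apply, e1, e2, e]
  exact ⟨rfl, rfl⟩

theorem RR_inf_TT (h : HypK K p n) (hc : AllCh K) (hG : StGrp.{u}) : RR hc ⊓ TT K = ⊥ := by
  rw [eq_bot_iff]
  rintro α ⟨h1, h2⟩
  obtain ⟨w, hw⟩ := exists_om h
  obtain ⟨x1, x2, τ, hα⟩ := (hG h).2.2.2.1 α h2
  have h1' : ∀ x, (α x).r = x.r ∧ (α x).u2 = x.u2 := h1
  have e2 : ∀ t, x2 * τ t = t := by
    intro t
    have := (h1' (mk w hw 0 0 t 0)).2
    rw [hα.u2] at this
    exact this
  have ex2 : x2 = 1 := by
    have := e2 1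
    rwa [map_one, mul_one] at this
  have eτ : ∀ t, τ t = t := by
    intro t
    have := e2 t
    rwa [ex2, one_mul] at this
  have ex1 : x1 = 1 := by
    have := (h1' (mk w hw 1 0 0 0)).1
    rw [hα.r, ex2, inv_one, mul_one] at this
    have e3 : x1 * τ 1 = 1 := this
    rwa [map_one, mul_one] at e3
  rw [Subgroup.mem_bot]
  ext1 x
  rw [MulAut.one_apply]
  ext
  · exact (h1' x).1
  · rw [hα.u1, ex1, eτ, one_mul]
  · exact (h1' x).2
  · rw [hα.a, ex1, eτ, star_one, one_mul, one_mul]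
  · rw [hα.b, ex1, ex2, eτ, star_one, one_mul, one_mul]
  · rw [hα.c, ex2, eτ, star_one, one_mul, one_mul]

theorem RR_card (h : HypK K p n) (hc : AllCh K) (hG : StGrp.{u}) : ∃ e : ℕ, Nat.card (RR hc) = p ^ e := by
  have := finite_mulAut h hG
  refine ⟨_, Nat.eq_prime_pow_of_unique_prime_dvd (Nat.card_pos (α := RR hc)).ne' ?_⟩
  intro d hd hdvd
  by_contra hne
  have : Fact d.Prime := ⟨hd⟩
  obtain ⟨α, hα⟩ := exists_prime_orderOf_dvd_card' (G := RR hc) d hdvd
  have h1 : (α : MulAut (UG K)) ^ d = 1 := by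
    rw [← SubmonoidClass.coe_pow, ← hα, pow_orderOf_eq_one, OneMemClass.coe_one]
  have h2 : (α : MulAut (UG K)) = 1 := RR_trivial h hc α.2 h1 (fun h3 =>
    hne ((Nat.prime_dvd_prime_iff_eq h.pp hd).1 h3).symm)
  have h3 : α = 1 := Subtype.ext h2
  rw [h3, orderOf_one] at hα
  exact hd.one_lt.ne hα

/-! ### the conjugation -/

open scoped Pointwise in
/-- Schur-Zassenhaus inside a subgroup -/
theorem sz_in {G : Type u} [Group G] [Finite G] (R D T : Subgroup G) [R.Normal] (hs : Group.IsSolvable R)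
    (hcop : (Nat.card D).Coprime (Nat.card R)) (hRT : R ⊓ T = ⊥)
    (hall : ∀ x : G, ∃ t ∈ T, x * t⁻¹ ∈ R) : ∃ g : G, ∀ d ∈ D, g * d * g⁻¹ ∈ T := by
  let L : Subgroup G := D ⊔ R
  have hDL : D ≤ L := le_sup_left
  have hRL : R ≤ L := le_sup_right
  let N : Subgroup L := R.subgroupOf L
  have hN : N.Normal := inferInstance
  let H : Subgroup L := D.subgroupOf L
  let T' : Subgroup L := T.subgroupOf L
  have cN : Nat.card N = Nat.card R := Nat.card_congr (Subgroup.subgroupOfEquivOfLe hRL).toEquiv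
  have cH : Nat.card H = Nat.card D := Nat.card_congr (Subgroup.subgroupOfEquivOfLe hDL).toEquiv
  have hDR : D ⊓ R = ⊥ := (Subgroup.disjoint_of_coprime_natCard hcop).eq_bot
  have hNH : N.IsComplement' H := by
    refine Subgroup.isComplement'_of_disjoint_and_mul_eq_univ ?_ ?_
    · rw [disjoint_iff, eq_bot_iff]
      rintro ⟨x, hx⟩ ⟨h1, h2⟩
      have h3 : x ∈ D ⊓ R := ⟨h2, h1⟩
      rw [hDR] at h3
      exact Subgroup.mem_bot.2 (Subtype.ext h3)
    · rw [Set.eq_univ_iff_forall]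
      rintro ⟨x, hx⟩
      have hx' : x ∈ ((R ⊔ D : Subgroup G) : Set G) := by
        rw [sup_comm]
        exact hx
      rw [Subgroup.normal_mul] at hx'
      obtain ⟨r, hr, d, hd, rfl⟩ := Set.mem_mul.1 hx'
      exact Set.mem_mul.2 ⟨⟨r, hRL hr⟩, hr, ⟨d, hDL hd⟩, hd, rfl⟩
  have hNT : N.IsComplement' T' := by
    refine Subgroup.isComplement'_of_disjoint_and_mul_eq_univ ?_ ?_
    · rw [disjoint_iff, eq_bot_iff]
      rintro ⟨x, hx⟩ ⟨h1, h2⟩
      have h3 : x ∈ R ⊓ T := ⟨h1, h2⟩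
      rw [hRT] at h3
      exact Subgroup.mem_bot.2 (Subtype.ext h3)
    · rw [Set.eq_univ_iff_forall]
      rintro ⟨x, hx⟩
      obtain ⟨t, ht, hxt⟩ := hall x
      have htL : t ∈ L := by
        have : (x * t⁻¹)⁻¹ * x ∈ L := L.mul_mem (L.inv_mem (hRL hxt)) hx
        simpa using this
      refine Set.mem_mul.2 ⟨⟨x * t⁻¹, hRL hxt⟩, hxt, ⟨t, htL⟩, ht, ?_⟩
      exact Subtype.ext (inv_mul_cancel_right x t)
  have iH : Nat.card H = N.index := hNH.symm.index_eq_card.symm
  have iT : Nat.card T' = N.index := hNT.symm.index_eq_card.symm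
  have hcop' : (Nat.card N).Coprime N.index := by
    rw [cN, ← iH, cH]
    exact hcop.symm
  have hsN : Group.IsSolvable N :=
    Group.isSolvable_of_isSolvable_injective (f := (Subgroup.subgroupOfEquivOfLe hRL).toMonoidHom)
      (Subgroup.subgroupOfEquivOfLe hRL).injective
  obtain ⟨g, hg⟩ := Cfsg.Agent.Solvable.SZ.main (Nat.card L) L rfl N hcop' H T' (Or.inl hsN) iH iT
  refine ⟨g, fun d hd => ?_⟩
  have h1 : MulAut.conj g • (⟨d, hDL hd⟩ : L) ∈ MulAut.conj g • H :=
    Subgroup.smul_mem_pointwise_smul _ _ _ hd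
  rw [hg] at h1
  exact h1

/-- task PU-POS: `StPos` from `StTI` and `StGrp` -/
theorem stPos (hTI : StTI.{u}) (hG : StGrp.{u}) : StPos.{u} := by
  intro K _ _ p n h D hD
  have hc := allCh h hTI
  have := finite_mulAut h hG
  have : (RR hc).Normal := RR_normal hc
  obtain ⟨e, he⟩ := RR_card h hc hG
  have hp : Fact p.Prime := ⟨h.pp⟩
  have hpg : IsPGroup p (RR hc) := IsPGroup.of_card he
  have hnil := hpg.isNilpotent
  have hs : Group.IsSolvable (RR hc) := inferInstance
  refine sz_in (RR hc) D (TT K) hs ?_ (RR_inf_TT h hc hG) (exists_tor h hc hG)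
  rw [he]
  exact Nat.Coprime.pow_right e hD

end Cfsg.Agent.H595.PU
end

private theorem dce_974e37c8ad75 : _root_.True := by
  try have : _root_.True := by simp only [_root_.Cfsg.Agent.H756.PU.hull.eq_1]
  try have : _root_.True := by simp only [_root_.Cfsg.Agent.H595.PU.mkV.congr_simp]
  try have : _root_.True := by simp only [_root_.Cfsg.Agent.H756.PU.UG.mk.congr_simp]
  try have : _root_.True := by simp only [_root_.Cfsg.Agent.H595.PU.mkV.eq_1]
  try have : _root_.True := by simp only [_root_.Cfsg.Agent.H595.PU.mk.eq_1]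
  exact _root_.True.intro
end

-- part: H199/PU/Coord
section
prune_inst 0xf43067047502000000180002200000601000040000240010f0000004090f9060ad41280142000902080200002800002813100000420000000a000000000501000001100481080000200006802004000000000000000000000000000000041000000000000
set_option linter.all false
open scoped Cfsg.Agent.FastGrp

/-!
# S5258: coordinates in `UG K` (helper199)

* `zz α` : the element of `Z` with coordinate `α`;
* `comm_Z2` : `[w, g] = zz (r star b - star r b)` for `w ∈ Z₂`;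
* `comm_VV_Q2` : `[V, Q₂] = 1`; `comm_VV_mem` : `[V, S] ≤ Z₂`; `comm_Z2_mem` : `[Z₂, S] ≤ Z`;
* `exists_comm_Z2` : `[Z₂, g] = Z` for `g ∉ Q₂`.
-/

set_option autoImplicit false

namespace Cfsg.Agent.H199.PU

open Cfsg Cfsg.FusionSystem Cfsg.Agent.H756.PU Cfsg.Agent.H756.PU.UG

universe u

theorem comm_eq_iff {G : Type*} [Group G] {x y z : G} : x * y * x⁻¹ * y⁻¹ = z ↔ x * y = z * (y * x) := by
  constructor
  · rintro rfl; group
  · intro h
    rw [h]; group

variable {K : Type u} [Field K] [StarRing K]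

variable (K) in
theorem ZS_le_Z2 : ZS K ≤ Z2 K := fun _ h => ⟨h.1, h.2.1, h.2.2.1, h.2.2.2.2⟩
variable (K) in
theorem Z2_le_VV : Z2 K ≤ VV K := fun _ h => ⟨h.1, h.2.1, h.2.2.1⟩
/-- the element of `Z` with coordinate `α` -/
def zz (α : K) (h : α + star α = 0) : UG K where
  r := 0
  u1 := 0
  u2 := 0
  a := α
  b := 0
  c := 0
  ha := by simpa only [_root_.star_zero, _root_.MulZeroClass.mul_zero, _root_.add_zero] using h
  hc := by simp

theorem zz_mem (α : K) (h : α + star α = 0) : zz α h ∈ ZS K := ⟨rfl, rfl, rfl, rfl, rfl⟩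

theorem eq_zz {g : UG K} (hg : g ∈ ZS K) : ∃ h : g.a + star g.a = 0, g = zz g.a h := by
  obtain ⟨h1, h2, h3, h4, h5⟩ := hg
  have h := g.ha
  rw [h2, zero_mul, add_zero] at h
  exact ⟨h, UG.ext h1 h2 h3 rfl h4 h5⟩

theorem comm_Z2 {w g : UG K} (hw : w ∈ Z2 K) (h : g.r * star w.b - star g.r * w.b +
    star (g.r * star w.b - star g.r * w.b) = 0) :
    w * g * w⁻¹ * g⁻¹ = zz (g.r * star w.b - star g.r * w.b) h := by
  obtain ⟨h1, h2, h3, h4⟩ := hw
  rw [comm_eq_iff]
  ext
  · simp only [zz, h1, _root_.Cfsg.Agent.H756.PU.UG.mul_r, _root_.zero_add, _root_.add_zero]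
  · simp only [zz, h1, h2, h3, _root_.Cfsg.Agent.H756.PU.UG.mul_u1, _root_.zero_add, _root_.MulZeroClass.zero_mul, _root_.add_zero, _root_.MulZeroClass.mul_zero, _root_.Cfsg.Agent.H756.PU.UG.mul_u2]
  · simp only [zz, h3, _root_.Cfsg.Agent.H756.PU.UG.mul_u2, _root_.zero_add, _root_.add_zero]
  · simp only [zz, mul_a, d, mul_r, mul_u1, mul_u2, mul_b, mul_c, h1, h2, h3, h4, star_zero, star_add]
    ring
  · simp only [zz, mul_b, mul_r, mul_u1, mul_u2, h1, h2, h3, h4, star_zero]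
    ring
  · simp only [zz, h3, h4, _root_.Cfsg.Agent.H756.PU.UG.mul_c, _root_.zero_add, _root_.MulZeroClass.zero_mul, _root_.sub_zero, _root_.add_zero, _root_.star_zero, _root_.MulZeroClass.mul_zero, _root_.Cfsg.Agent.H756.PU.UG.mul_u2]

theorem comm_Z2_coord (x y : K) : x * star y - star x * y + star (x * star y - star x * y) = 0 := by
  simp only [star_sub, star_mul', star_star]
  ring

/-- `[Z₂, S] ≤ Z` -/
theorem comm_Z2_mem {w : UG K} (hw : w ∈ Z2 K) (g : UG K) : w * g * w⁻¹ * g⁻¹ ∈ ZS K := by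
  rw [comm_Z2 hw (comm_Z2_coord _ _)]
  exact zz_mem _ _

/-- `[V, Q₂] = 1` -/
theorem comm_VV_Q2 {v x : UG K} (hv : v ∈ VV K) (hx : x ∈ Q2 K) : v * x = x * v := by
  obtain ⟨h1, h2, h3⟩ := hv
  have hx' : x.r = 0 := hx
  ext
  · simp [h1, hx']
  · simp [h1, h2, h3, hx']
  · simp [h3]
  · simp only [mul_a, d, h1, h2, h3, hx', star_zero]
    ring
  · simp only [mul_b, h1, h2, h3, hx', star_zero]
    ring
  · simp only [mul_c, h3, star_zero]
    ring

/-- `[V, S] ≤ Z₂` -/
theorem comm_VV_mem {v : UG K} (hv : v ∈ VV K) (g : UG K) : v * g * v⁻¹ * g⁻¹ ∈ Z2 K := by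
  obtain ⟨h1, h2, h3⟩ := hv
  have hc := v.hc
  have hg := g.hc
  rw [h3, zero_mul, add_zero] at hc
  refine ⟨?_, ?_, ?_, ?_⟩
  · simp only [h1, _root_.Cfsg.Agent.H756.PU.UG.mul_r, _root_.zero_add, _root_.Cfsg.Agent.H756.PU.UG.inv_r, _root_.neg_zero, _root_.add_zero, _root_.add_neg_cancel]
  · simp only [mul_u1, mul_r, mul_u2, inv_r, inv_u1, inv_u2, h1, h2, h3]
    ring
  · simp only [h3, _root_.Cfsg.Agent.H756.PU.UG.mul_u2, _root_.zero_add, _root_.Cfsg.Agent.H756.PU.UG.inv_u2, _root_.neg_zero, _root_.add_zero, _root_.add_neg_cancel]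
  · simp only [mul_c, inv_c, mul_u2, inv_u2, h3, star_neg, star_zero]
    linear_combination hc + hg

/-- `star` is not `- id` -/
theorem exists_star {p n : ℕ} (hK : HypK K p n) : ∃ θ : K, θ + star θ ≠ 0 := by
  have hfin := hK.fin
  by_contra hcon
  push Not at hcon
  have h1 : ∀ x : K, star x = x := by
    intro x
    have h2 : (1 : K) = -1 := by
      have := hcon 1
      rw [star_one] at this
      linear_combination this
    have h3 := hcon x
    have h4 : x = -x := by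
      calc x = 1 * x := (one_mul x).symm
        _ = (-1) * x := by rw [← h2]
        _ = -x := by ring
    linear_combination h3 + h4 * (-1)
  have hft := Fintype.ofFinite K
  have hcard : Fintype.card K = (p ^ n) ^ 2 := by rw [← Nat.card_eq_fintype_card, hK.card]
  have hq : 2 ≤ p ^ n := by
    calc 2 ≤ p := hK.pp.two_le
      _ = p ^ 1 := (pow_one p).symm
      _ ≤ p ^ n := Nat.pow_le_pow_right hK.pp.pos hK.hn
  have h2 : ∀ x : Kˣ, x ^ (p ^ n - 1) = 1 := by
    intro x
    have h3 : (x : K) ^ (p ^ n) = x := by rw [← hK.star_eq, h1]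
    have h4 : x ^ (p ^ n) = x := Units.ext (by rw [Units.val_pow_eq_pow_val, h3])
    have h5 : x ^ (p ^ n - 1) * x = 1 * x := by
      rw [← pow_succ, one_mul, show p ^ n - 1 + 1 = p ^ n by omega, h4]
    exact mul_right_cancel h5
  have h3 := (FiniteField.forall_pow_eq_one_iff K (p ^ n - 1)).1 h2
  rw [hcard] at h3
  have h4 := Nat.le_of_dvd (by omega) h3
  have h5 : p ^ n < (p ^ n) ^ 2 := by nlinarith only [hq]
  omega

/-- `[Z₂, g] = Z` for `g ∉ Q₂` -/
theorem exists_comm_Z2 {p n : ℕ} (hK : HypK K p n) {g z : UG K} (hg : g ∉ Q2 K) (hz : z ∈ ZS K) :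
    ∃ w ∈ Z2 K, w * g * w⁻¹ * g⁻¹ = z := by
  obtain ⟨θ, hθ⟩ := exists_star hK
  obtain ⟨h0, hz'⟩ := eq_zz hz
  have hr : g.r ≠ 0 := hg
  have hr' : star g.r ≠ 0 := by
    intro h
    apply hr
    rw [← star_star g.r, h, star_zero]
  -- `b = - z.a θ / (c star r)`
  obtain ⟨b, hb⟩ : ∃ b : K, star g.r * b = - z.a * θ / (θ + star θ) := ⟨(- z.a * θ / (θ + star θ)) / star g.r, by
    field_simp⟩
  have hsc : star (θ + star θ) = θ + star θ := by rw [star_add, star_star, add_comm]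
  have hb' : g.r * star b = z.a * star θ / (θ + star θ) := by
    have h1 := congrArg star hb
    rw [star_mul', star_star, star_div₀, star_mul', star_neg, hsc] at h1
    rw [h1]
    have h2 : star z.a = - z.a := by linear_combination h0
    rw [h2]
    ring
  refine ⟨{ r := 0, u1 := 0, u2 := 0, a := 0, b := b, c := 0, ha := by simp, hc := by simp }, ⟨rfl, rfl, rfl, rfl⟩, ?_⟩
  rw [comm_Z2 ⟨rfl, rfl, rfl, rfl⟩ (comm_Z2_coord _ _), hz']
  ext <;> simp only [zz]
  rw [hb, hb']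
  field_simp
  ring

end Cfsg.Agent.H199.PU

private theorem dce_63a89956f872 : _root_.True := by
  try have : _root_.True := by simp only [_root_.Cfsg.Agent.H756.PU.UG.mk.congr_simp]
  try have : _root_.True := by simp only [_root_.Cfsg.Agent.H199.PU.zz.eq_1]
  exact _root_.True.intro
end

-- part: H294/PU/Coord
section
prune_inst 0xf4306704750200000018000262001c62b2000400002c0010e00000060d898c60ad412821ba300102881200446838006813100100420000000a000000011f0180000110048108a000000006000004000000000000000000000000000000000000000000000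
set_option linter.all false
open scoped Cfsg.Agent.FastGrp

/-!
# S5258: coordinates of `UG K` (helper294)

Elementary facts about the field and the commutators of `UG K` modulo `Z`, `Z2`, `Y1`, `V`.
-/

set_option autoImplicit false

namespace Cfsg.Agent.H294.PU

open Cfsg Cfsg.FusionSystem Cfsg.Agent.H756.PU

universe u

section field

variable {K : Type u} [Field K] [StarRing K] {p n : ℕ}

theorem two_le_q (h : HypK K p n) : 2 ≤ p ^ n := by
  calc 2 ≤ p := h.pp.two_le
    _ = p ^ 1 := (pow_one p).symm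
    _ ≤ p ^ n := Nat.pow_le_pow_right h.pp.pos h.hn

/-- the involution is not trivial -/
theorem exists_star_ne (h : HypK K p n) : ∃ b : K, star b ≠ b := by
  haveI := h.fin
  haveI : Fintype K := Fintype.ofFinite K
  by_contra hcon
  push Not at hcon
  have hq := two_le_q h
  set q := p ^ n with hqdef
  obtain ⟨ζ, hζ⟩ := IsCyclic.exists_generator (α := Kˣ)
  have ho : orderOf ζ = q ^ 2 - 1 := by
    rw [orderOf_eq_card_of_forall_mem_zpowers hζ, Nat.card_units, h.card]
  have h1 : (ζ : K) ^ q = ζ := by rw [← h.star_eq]; exact hcon _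
  have h2 : ζ ^ (q - 1) = 1 := by
    ext
    rw [Units.val_pow_eq_pow_val, Units.val_one]
    have h3 : (ζ : K) ^ (q - 1) * ζ = 1 * ζ := by
      rw [← pow_succ, Nat.sub_add_cancel (by omega), h1, one_mul]
    exact mul_right_cancel₀ (Units.ne_zero ζ) h3
  have h4 : q ^ 2 - 1 ∣ q - 1 := by rw [← ho]; exact orderOf_dvd_of_pow_eq_one h2
  have h5 : q ^ 2 - 1 ≤ q - 1 := Nat.le_of_dvd (by omega) h4
  have h6 : q * 2 ≤ q ^ 2 := by rw [pow_two]; exact Nat.mul_le_mul_left q hq
  omega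

/-- an element of nonzero trace -/
theorem exists_tr_ne (h : HypK K p n) : ∃ θ : K, θ + star θ ≠ 0 := by
  by_cases h2 : (2 : K) = 0
  · obtain ⟨b, hb⟩ := exists_star_ne h
    refine ⟨b, fun hz => hb ?_⟩
    linear_combination hz - b * h2
  · refine ⟨1, ?_⟩
    rw [star_one, one_add_one_eq_two]
    exact h2

/-- Hilbert 90 for the trace -/
theorem exists_sub (h : HypK K p n) {a : K} (ha : a + star a = 0) : ∃ x : K, star x - x = a := by
  obtain ⟨θ, hθ⟩ := exists_tr_ne h
  have hs : star (θ + star θ) = θ + star θ := by rw [star_add, star_star, add_comm]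
  refine ⟨- (a * θ) / (θ + star θ), ?_⟩
  have h1 : star (- (a * θ) / (θ + star θ)) = - (star a * star θ) / (θ + star θ) := by
    rw [star_div₀, hs, star_neg, star_mul']
  rw [h1, ← sub_div, div_eq_iff hθ]
  linear_combination (-star θ) * ha

/-- every norm is the opposite of a trace -/
theorem exists_norm (h : HypK K p n) (u : K) : ∃ a : K, a + star a + u * star u = 0 := by
  obtain ⟨θ, hθ⟩ := exists_tr_ne h
  have hs : star (θ + star θ) = θ + star θ := by rw [star_add, star_star, add_comm]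
  refine ⟨- (u * star u * θ) / (θ + star θ), ?_⟩
  have h1 : star (- (u * star u * θ) / (θ + star θ)) = - (u * star u * star θ) / (θ + star θ) := by
    rw [star_div₀, hs, star_neg, star_mul', star_mul', star_star]
    ring
  rw [h1, ← add_div]
  field_simp
  ring

end field

section coord

variable {K : Type u} [Field K] [StarRing K]

theorem commZ {g y : UG K} : g * y * g⁻¹ * y⁻¹ ∈ ZS K ↔
    (g * y).r = (y * g).r ∧ (g * y).u1 = (y * g).u1 ∧ (g * y).u2 = (y * g).u2 ∧ (g * y).b = (y * g).b ∧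
      (g * y).c = (y * g).c := by
  constructor
  · intro hz
    obtain ⟨h1, h2, h3, h4, h5⟩ := hz
    set z := g * y * g⁻¹ * y⁻¹ with hzd
    have he : g * y = z * (y * g) := by rw [hzd]; group
    rw [he]
    simp only [UG.mul_b, UG.mul_u1, h1, h2, h3, h4, h5, _root_.Cfsg.Agent.H756.PU.UG.mul_r, _root_.zero_add, _root_.Cfsg.Agent.H756.PU.UG.mul_u2, _root_.MulZeroClass.zero_mul, _root_.add_zero, _root_.Cfsg.Agent.H756.PU.UG.mul_c, _root_.StarAddMonoid.star_add, _root_.sub_zero, _root_.and_self]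
  · rintro ⟨h1, h2, h3, h4, h5⟩
    set z := g * y * g⁻¹ * y⁻¹ with hzd
    have he : g * y = z * (y * g) := by rw [hzd]; group
    rw [he] at h1 h2 h3 h4 h5
    set x := y * g
    have k1 : z.r = 0 := by rw [UG.mul_r] at h1; simpa using h1
    have k3 : z.u2 = 0 := by rw [UG.mul_u2] at h3; simpa using h3
    have k2 : z.u1 = 0 := by rw [UG.mul_u1, k1] at h2; simpa using h2
    have k4 : z.b = 0 := by rw [UG.mul_b, k1, k2] at h4; simpa only [_root_.MulZeroClass.zero_mul, _root_.add_zero, _root_.sub_zero, _root_.add_eq_right] using h4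
    have k5 : z.c = 0 := by rw [UG.mul_c, k3] at h5; simpa only [_root_.MulZeroClass.zero_mul, _root_.sub_zero, _root_.add_eq_right] using h5
    exact ⟨k1, k2, k3, k4, k5⟩

theorem commV {g y : UG K} : g * y * g⁻¹ * y⁻¹ ∈ VV K ↔
    (g * y).r = (y * g).r ∧ (g * y).u1 = (y * g).u1 ∧ (g * y).u2 = (y * g).u2 := by
  constructor
  · intro hz
    obtain ⟨h1, h2, h3⟩ := hz
    set z := g * y * g⁻¹ * y⁻¹ with hzd
    have he : g * y = z * (y * g) := by rw [hzd]; group
    rw [he]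
    simp [UG.mul_u1, h1, h2, h3]
  · rintro ⟨h1, h2, h3⟩
    set z := g * y * g⁻¹ * y⁻¹ with hzd
    have he : g * y = z * (y * g) := by rw [hzd]; group
    rw [he] at h1 h2 h3
    set x := y * g
    have k1 : z.r = 0 := by rw [UG.mul_r] at h1; simpa using h1
    have k3 : z.u2 = 0 := by rw [UG.mul_u2] at h3; simpa using h3
    have k2 : z.u1 = 0 := by rw [UG.mul_u1, k1] at h2; simpa using h2
    exact ⟨k1, k2, k3⟩

theorem commZ2 {g y : UG K} : g * y * g⁻¹ * y⁻¹ ∈ Z2 K ↔
    (g * y).r = (y * g).r ∧ (g * y).u1 = (y * g).u1 ∧ (g * y).u2 = (y * g).u2 ∧ (g * y).c = (y * g).c := by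
  constructor
  · intro hz
    obtain ⟨h1, h2, h3, h5⟩ := hz
    set z := g * y * g⁻¹ * y⁻¹ with hzd
    have he : g * y = z * (y * g) := by rw [hzd]; group
    rw [he]
    simp only [UG.mul_u1, h1, h2, h3, h5, _root_.Cfsg.Agent.H756.PU.UG.mul_r, _root_.zero_add, _root_.Cfsg.Agent.H756.PU.UG.mul_u2, _root_.MulZeroClass.zero_mul, _root_.add_zero, _root_.Cfsg.Agent.H756.PU.UG.mul_c, _root_.StarAddMonoid.star_add, _root_.sub_zero, _root_.and_self]
  · rintro ⟨h1, h2, h3, h5⟩
    set z := g * y * g⁻¹ * y⁻¹ with hzd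
    have he : g * y = z * (y * g) := by rw [hzd]; group
    rw [he] at h1 h2 h3 h5
    set x := y * g
    have k1 : z.r = 0 := by rw [UG.mul_r] at h1; simpa using h1
    have k3 : z.u2 = 0 := by rw [UG.mul_u2] at h3; simpa using h3
    have k2 : z.u1 = 0 := by rw [UG.mul_u1, k1] at h2; simpa using h2
    have k5 : z.c = 0 := by rw [UG.mul_c, k3] at h5; simpa only [_root_.MulZeroClass.zero_mul, _root_.sub_zero, _root_.add_eq_right] using h5
    exact ⟨k1, k2, k3, k5⟩

theorem mem_Y1 {g : UG K} : g ∈ Y1 K ↔ g.u2 = 0 ∧ g.c = 0 ∧ g.r = 0 := by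
  constructor
  · rintro ⟨⟨h1, h2⟩, h3⟩; exact ⟨h1, h2, h3⟩
  · rintro ⟨h1, h2, h3⟩; exact ⟨⟨h1, h2⟩, h3⟩

theorem commY1 {g y : UG K} (h1 : (g * y).r = (y * g).r) (h3 : (g * y).u2 = (y * g).u2)
    (h5 : (g * y).c = (y * g).c) : g * y * g⁻¹ * y⁻¹ ∈ Y1 K := by
  set z := g * y * g⁻¹ * y⁻¹ with hzd
  have he : g * y = z * (y * g) := by rw [hzd]; group
  rw [he] at h1 h3 h5
  set x := y * g
  have k1 : z.r = 0 := by rw [UG.mul_r] at h1; simpa using h1
  have k3 : z.u2 = 0 := by rw [UG.mul_u2] at h3; simpa using h3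
  have k5 : z.c = 0 := by rw [UG.mul_c, k3] at h5; simpa only [_root_.MulZeroClass.zero_mul, _root_.sub_zero, _root_.add_eq_right] using h5
  exact mem_Y1.2 ⟨k3, k5, k1⟩

theorem commYY {g y : UG K} (h1 : (g * y).r = (y * g).r) (h3 : (g * y).u2 = (y * g).u2) :
    g * y * g⁻¹ * y⁻¹ ∈ YY K := by
  set z := g * y * g⁻¹ * y⁻¹ with hzd
  have he : g * y = z * (y * g) := by rw [hzd]; group
  rw [he] at h1 h3
  set x := y * g
  have k1 : z.r = 0 := by rw [UG.mul_r] at h1; simpa using h1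
  have k3 : z.u2 = 0 := by rw [UG.mul_u2] at h3; simpa using h3
  exact ⟨k1, k3⟩

/-- commutators modulo `Z`: the equations -/
theorem commZ_iff {g y : UG K} : g * y * g⁻¹ * y⁻¹ ∈ ZS K ↔
    g.r * y.u2 = y.r * g.u2 ∧ g.r * y.c - g.u1 * star y.u2 = y.r * g.c - y.u1 * star g.u2 ∧
      g.u2 * star y.u2 = y.u2 * star g.u2 := by
  rw [commZ]
  simp only [UG.mul_r, UG.mul_u1, UG.mul_u2, UG.mul_b, UG.mul_c]
  constructor
  · rintro ⟨-, h2, -, h4, h5⟩
    exact ⟨by linear_combination h2, by linear_combination h4, by linear_combination -h5⟩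
  · rintro ⟨h2, h4, h5⟩
    exact ⟨by ring, by linear_combination h2, by ring, by linear_combination h4, by linear_combination -h5⟩

theorem commV_iff {g y : UG K} : g * y * g⁻¹ * y⁻¹ ∈ VV K ↔ g.r * y.u2 = y.r * g.u2 := by
  rw [commV]
  simp only [UG.mul_r, UG.mul_u1, UG.mul_u2]
  constructor
  · rintro ⟨-, h2, -⟩
    linear_combination h2
  · intro h2
    exact ⟨by ring, by linear_combination h2, by ring⟩

/-! ### elements -/

/-- the element with only coordinate `b` -/
def eb (b : K) : UG K := ⟨0, 0, 0, 0, b, 0, by simp, by simp⟩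
/-- the element with only coordinate `r` -/
def er (r : K) : UG K := ⟨r, 0, 0, 0, 0, 0, by simp, by simp⟩
/-- the element with only coordinates `u1`, `a` -/
def eu1 (u a : K) (h : a + star a + u * star u = 0) : UG K := ⟨0, u, 0, a, 0, 0, h, by simp⟩
/-- the element with only coordinates `u2`, `c` -/
def eu2 (u c : K) (h : c + star c + u * star u = 0) : UG K := ⟨0, 0, u, 0, 0, c, by simp, h⟩

/-- commuting with `Z2` -/
theorem comm_eb {x : UG K} (h : ∀ b, x * eb b = eb b * x) (hK : ∃ b : K, star b ≠ b) : x.r = 0 := by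
  have h1 : ∀ b : K, - (x.r * star b) + star x.r * b = 0 := fun b => by
    have := congrArg UG.a (h b)
    simp only [UG.mul_a, eb, UG.d] at this
    simp only [star_zero, mul_zero, zero_mul, sub_zero, add_zero, zero_add] at this
    linear_combination this
  obtain ⟨b, hb⟩ := hK
  have h2 := h1 1
  rw [star_one] at h2
  have h3 := h1 b
  have h4 : x.r * (b - star b) = 0 := by linear_combination h3 - b * h2
  rcases mul_eq_zero.1 h4 with h5 | h5
  · exact h5
  · exact absurd (sub_eq_zero.1 h5).symm hb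

theorem Z2_comm_of_r {x z : UG K} (hx : x.r = 0) (hz : z ∈ Z2 K) : x * z = z * x := by
  obtain ⟨h1, h2, h3, h4⟩ := hz
  ext
  · simp [h1, hx]
  · simp [h1, h2, h3, hx]
  · simp [h3, add_comm]
  · simp only [UG.mul_a, h1, h2, h3, hx, add_comm, _root_.MulZeroClass.zero_mul, _root_.add_zero, _root_.star_zero, _root_.MulZeroClass.mul_zero, _root_.sub_zero, _root_.zero_add]
  · simp only [UG.mul_b, h1, h2, h3, h4, hx, add_comm, _root_.MulZeroClass.mul_zero, _root_.add_zero, _root_.star_zero, _root_.sub_zero, _root_.MulZeroClass.zero_mul]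
  · simp only [h3, h4, _root_.Cfsg.Agent.H756.PU.UG.mul_c, _root_.add_zero, _root_.star_zero, _root_.MulZeroClass.mul_zero, _root_.sub_zero, _root_.zero_add, _root_.MulZeroClass.zero_mul]

/-- `Q2` is the centralizer of `Z2` -/
theorem mem_Q2_iff (hK : ∃ b : K, star b ≠ b) {x : UG K} : x ∈ Q2 K ↔ ∀ z ∈ Z2 K, x * z = z * x := by
  refine ⟨fun h z hz => Z2_comm_of_r h hz, fun h => ?_⟩
  exact comm_eb (fun b => h _ ⟨rfl, rfl, rfl, rfl⟩) hK

theorem V_comm {x v : UG K} (hv : v ∈ VV K) (hx : x ∈ Q2 K) : v * x = x * v := by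
  obtain ⟨h1, h2, h3⟩ := hv
  have hx' : x.r = 0 := hx
  ext
  · simp [h1, hx']
  · simp [h1, h2, h3, hx']
  · simp [h3]
  · simp only [UG.mul_a, h1, h2, h3, hx', add_comm, _root_.MulZeroClass.zero_mul, _root_.add_zero, _root_.star_zero, _root_.MulZeroClass.mul_zero, _root_.zero_add, _root_.sub_zero]
  · simp only [UG.mul_b, h1, h2, h3, hx', add_comm, _root_.MulZeroClass.zero_mul, _root_.add_zero, _root_.sub_zero, _root_.star_zero, _root_.MulZeroClass.mul_zero]
  · simp only [h3, add_comm, _root_.Cfsg.Agent.H756.PU.UG.mul_c, _root_.MulZeroClass.zero_mul, _root_.sub_zero, _root_.star_zero, _root_.MulZeroClass.mul_zero]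

theorem Z_comm {x v : UG K} (hv : v ∈ ZS K) : v * x = x * v := by
  obtain ⟨h1, h2, h3, h4, h5⟩ := hv
  ext
  · simp [h1]
  · simp [h1, h2, h3]
  · simp [h3]
  · simp only [UG.mul_a, UG.d, h1, h2, h3, h4, h5, add_comm, _root_.MulZeroClass.zero_mul, _root_.add_zero, _root_.star_zero, _root_.MulZeroClass.mul_zero, _root_.zero_add, _root_.sub_zero, _root_.neg_zero, _root_.sub_self]
  · simp only [UG.mul_b, h1, h2, h3, h4, h5, _root_.zero_add, _root_.MulZeroClass.zero_mul, _root_.add_zero, _root_.sub_zero, _root_.MulZeroClass.mul_zero, _root_.star_zero]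
  · simp only [h3, h5, _root_.Cfsg.Agent.H756.PU.UG.mul_c, _root_.zero_add, _root_.MulZeroClass.zero_mul, _root_.sub_zero, _root_.add_zero, _root_.star_zero, _root_.MulZeroClass.mul_zero]

end coord

end Cfsg.Agent.H294.PU

private theorem dce_aaf7235d48f6 : _root_.True := by
  try have : _root_.True := by simp only [_root_.Cfsg.Agent.H756.PU.UG.mk.congr_simp]
  try have : _root_.True := by simp only [_root_.Cfsg.Agent.H294.PU.eb.eq_1]
  exact _root_.True.intro
end

-- part: H541/PU/Basic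
section
prune_inst 0xe4306604010202000018000262001c6292000400002c0010e00000060c808c602d012821b8300102880200c46038006813100100420000000a000000011c01a0800110040100a000000006000004000000000000000000000000000000000000000000000
set_option linter.all false
open scoped Cfsg.Agent.FastGrp

/-!
# S5258: the group `Q₁` and its automorphisms (helper541)

* `exists_ne_star`, `exists_theta`: elements of the field;
* the multiplication of `Q₁`, its centre;
* `CQ`: the automorphisms of `Q₁` acting trivially on `Q₁/Z`; `UQ`: those preserving the function `z = a - r* b`.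
-/

set_option autoImplicit false

namespace Cfsg.Agent.H541.PU

open Cfsg Cfsg.FusionSystem Cfsg.Agent.H756.PU Cfsg.Agent.H802

universe u

section Field

variable {K : Type u} [Field K] [StarRing K] {p n : ℕ}

theorem two_le_q (h : HypK K p n) : 2 ≤ p ^ n := by
  have h1 : p ^ 1 ≤ p ^ n := Nat.pow_le_pow_right h.pp.pos h.hn
  have := h.pp.two_le
  rw [pow_one] at h1
  omega

theorem exists_prim (h : HypK K p n) : ∃ t : K, t ≠ 0 ∧ ∀ m, 0 < m → m < (p ^ n) ^ 2 - 1 → t ^ m ≠ 1 := by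
  haveI := h.fin
  haveI : Finite Kˣ := inferInstance
  obtain ⟨g, hg⟩ := IsCyclic.exists_ofOrder_eq_natCard (α := Kˣ)
  refine ⟨g, g.ne_zero, fun m hm0 hm h1 => ?_⟩
  have h2 : g ^ m = 1 := by
    apply Units.ext
    rw [Units.val_pow_eq_pow_val, h1, Units.val_one]
  have h3 := orderOf_dvd_of_pow_eq_one h2
  rw [hg, Nat.card_units, h.card] at h3
  exact absurd (Nat.le_of_dvd hm0 h3) (by omega)

theorem exists_ne_star (h : HypK K p n) : ∃ t : K, t ≠ 0 ∧ t ≠ star t := by
  obtain ⟨t, ht0, ht⟩ := exists_prim h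
  have hq := two_le_q h
  refine ⟨t, ht0, fun he => ?_⟩
  refine ht (p ^ n - 1) (by omega) ?_ ?_
  · have : p ^ n - 1 < p ^ n * p ^ n - 1 := by
      have : p ^ n * 2 ≤ p ^ n * p ^ n := Nat.mul_le_mul_left _ hq
      omega
    rwa [← pow_two] at this
  · rw [h.star_eq] at he
    have h1 : t * t ^ (p ^ n - 1) = t * 1 := by
      rw [← pow_succ', Nat.sub_add_cancel (by omega), mul_one]
      exact he.symm
    exact mul_left_cancel₀ ht0 h1

theorem exists_theta (h : HypK K p n) : ∃ θ : K, θ + star θ = 1 := by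
  obtain ⟨t, ht0, ht⟩ := exists_prim h
  have hq := two_le_q h
  have hs : t + star t ≠ 0 := by
    intro he
    refine ht (2 * (p ^ n - 1)) (by omega) ?_ ?_
    · obtain ⟨k, hk⟩ : ∃ k, p ^ n = k + 2 := ⟨p ^ n - 2, by omega⟩
      rw [hk]
      have : (k + 2) ^ 2 = k * k + 4 * k + 4 := by ring
      rw [this]
      have : 2 * (k + 2 - 1) = 2 * k + 2 := by omega
      rw [this]
      have : 0 ≤ k * k := Nat.zero_le _
      omega
    · rw [h.star_eq] at he
      have h1 : t ^ (p ^ n - 1) = -1 := by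
        have h2 : t * t ^ (p ^ n - 1) = t * (-1) := by
          rw [← pow_succ', Nat.sub_add_cancel (by omega)]
          linear_combination he
        exact mul_left_cancel₀ ht0 h2
      rw [mul_comm, pow_mul, h1]
      ring
  refine ⟨t / (t + star t), ?_⟩
  rw [star_div₀, star_add, star_star, add_comm (star t) t, ← add_div, div_self hs]

end Field

section Group

variable {K : Type u} [Field K] [StarRing K] {p n : ℕ}

theorem Q1_conj_mem (g : UG K) {e : UG K} (he : e ∈ Q1 K) : g * e * g⁻¹ ∈ Q1 K := by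
  obtain ⟨h1, h2⟩ := he
  have hc := g.hc
  refine ⟨?_, ?_⟩
  · simp [h1]
  · simp only [UG.mul_c, UG.mul_u2, UG.inv_c, UG.inv_u2, h1, h2, star_neg, star_zero]
    linear_combination hc

instance Q1_normal : (Q1 K).Normal := ⟨fun _ he g => Q1_conj_mem g he⟩

/-- elements of `Q₁` are determined by the coordinates `r, u1, a, b` -/
theorem ext4 {e e' : Q1 K} (hr : (e : UG K).r = (e' : UG K).r) (hu : (e : UG K).u1 = (e' : UG K).u1)
    (ha : (e : UG K).a = (e' : UG K).a) (hb : (e : UG K).b = (e' : UG K).b) : e = e' := by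
  apply Subtype.ext
  ext
  · exact hr
  · exact hu
  · rw [e.2.1, e'.2.1]
  · exact ha
  · exact hb
  · rw [e.2.2, e'.2.2]

@[simp] theorem q_u2 (e : Q1 K) : (e : UG K).u2 = 0 := e.2.1
@[simp] theorem q_c (e : Q1 K) : (e : UG K).c = 0 := e.2.2

theorem q_r (e e' : Q1 K) : ((e * e' : Q1 K) : UG K).r = (e : UG K).r + (e' : UG K).r := rfl
theorem q_u1 (e e' : Q1 K) : ((e * e' : Q1 K) : UG K).u1 = (e : UG K).u1 + (e' : UG K).u1 := by
  simp
theorem q_b (e e' : Q1 K) : ((e * e' : Q1 K) : UG K).b = (e : UG K).b + (e' : UG K).b := by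
  simp [UG.mul_b]
theorem q_a (e e' : Q1 K) : ((e * e' : Q1 K) : UG K).a = (e : UG K).a + (e' : UG K).a
    - (e : UG K).r * star (e' : UG K).b + star (e : UG K).r * (e' : UG K).b
    - (e : UG K).u1 * star (e' : UG K).u1 := by
  simp only [Subgroup.coe_mul, UG.mul_a, UG.d, q_u2, q_c, star_zero]
  ring
theorem qi_r (e : Q1 K) : ((e⁻¹ : Q1 K) : UG K).r = - (e : UG K).r := rfl
theorem qi_u1 (e : Q1 K) : ((e⁻¹ : Q1 K) : UG K).u1 = - (e : UG K).u1 := by simp
theorem qi_b (e : Q1 K) : ((e⁻¹ : Q1 K) : UG K).b = - (e : UG K).b := by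
  simp only [UG.inv_b, UG.d, _root_.InvMemClass.coe_inv, _root_.Cfsg.Agent.H541.PU.q_u2, _root_.MulZeroClass.zero_mul, _root_.sub_zero, _root_.star_neg, _root_.star_star, _root_.Cfsg.Agent.H541.PU.q_c, _root_.star_zero, _root_.MulZeroClass.mul_zero]

/-- the elements of `Q₁` with given coordinates -/
def mk1 (r u1 b a : K) (h : a + star a + u1 * star u1 = 0) : Q1 K :=
  ⟨{ r := r, u1 := u1, u2 := 0, a := a, b := b, c := 0, ha := h, hc := by simp }, rfl, rfl⟩

theorem exists_mk (h : HypK K p n) (r u1 b : K) :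
    ∃ e : Q1 K, (e : UG K).r = r ∧ (e : UG K).u1 = u1 ∧ (e : UG K).b = b := by
  obtain ⟨θ, hθ⟩ := exists_theta h
  refine ⟨mk1 r u1 b (- (u1 * star u1) * θ) ?_, rfl, rfl, rfl⟩
  rw [star_mul', star_neg, star_mul', star_star]
  linear_combination (- (u1 * star u1)) * hθ

theorem mem_center_of {z : Q1 K} (hr : (z : UG K).r = 0) (hu : (z : UG K).u1 = 0) (hb : (z : UG K).b = 0) :
    z ∈ Subgroup.center (Q1 K) := by
  rw [Subgroup.mem_center_iff]
  intro g
  apply ext4
  · rw [q_r, q_r]; ring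
  · rw [q_u1, q_u1]; ring
  · rw [q_a, q_a, hr, hu, hb]; simp only [add_comm, _root_.star_zero, _root_.MulZeroClass.mul_zero, _root_.sub_zero, _root_.add_zero, _root_.MulZeroClass.zero_mul]
  · rw [q_b, q_b]; ring

theorem coords_of_mem_center (h : HypK K p n) {z : Q1 K} (hz : z ∈ Subgroup.center (Q1 K)) :
    (z : UG K).r = 0 ∧ (z : UG K).u1 = 0 ∧ (z : UG K).b = 0 := by
  rw [Subgroup.mem_center_iff] at hz
  obtain ⟨t, ht0, ht⟩ := exists_ne_star h
  have key : ∀ r u1 b : K, r * star (z : UG K).b - star r * (z : UG K).b + u1 * star (z : UG K).u1 =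
      (z : UG K).r * star b - star (z : UG K).r * b + (z : UG K).u1 * star u1 := by
    intro r u1 b
    obtain ⟨e, h1, h2, h3⟩ := exists_mk h r u1 b
    have := congrArg (fun x : Q1 K => (x : UG K).a) (hz e)
    simp only [q_a, h1, h2, h3] at this
    linear_combination -this
  refine ⟨?_, ?_, ?_⟩
  · by_contra hr
    have hsr : star (z : UG K).r ≠ 0 := star_ne_zero.2 hr
    have h1 := key 0 0 (t / star (z : UG K).r)
    simp only [zero_mul, star_zero, mul_zero, sub_zero, add_zero] at h1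
    rw [star_div₀, star_star, mul_div_cancel₀ _ hr, mul_div_cancel₀ _ hsr] at h1
    exact ht (by linear_combination h1)
  · by_contra hr
    have hsr : star (z : UG K).u1 ≠ 0 := star_ne_zero.2 hr
    have h1 := key 0 (t / star (z : UG K).u1) 0
    simp only [zero_mul, star_zero, mul_zero, sub_zero, zero_add] at h1
    rw [star_div₀, star_star, div_mul_cancel₀ _ hsr, mul_div_cancel₀ _ hr] at h1
    exact ht h1
  · by_contra hr
    have hsr : star (z : UG K).b ≠ 0 := star_ne_zero.2 hr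
    have h1 := key (t / star (z : UG K).b) 0 0
    simp only [zero_mul, star_zero, mul_zero, sub_zero, add_zero] at h1
    rw [star_div₀, star_star, div_mul_cancel₀ _ hsr, div_mul_cancel₀ _ hr] at h1
    exact ht (by linear_combination h1)

variable (K) in
/-- the automorphisms of `Q₁` acting trivially on `W = Q₁/Z` -/
def CQ : Subgroup (MulAut (Q1 K)) where
  carrier := {α | ∀ e : Q1 K, ((α e : Q1 K) : UG K).r = (e : UG K).r ∧ ((α e : Q1 K) : UG K).u1 = (e : UG K).u1 ∧
    ((α e : Q1 K) : UG K).b = (e : UG K).b}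
  one_mem' := fun e => ⟨rfl, rfl, rfl⟩
  mul_mem' := by
    intro α β hα hβ e
    rw [MulAut.mul_apply]
    exact ⟨(hα _).1.trans (hβ _).1, (hα _).2.1.trans (hβ _).2.1, (hα _).2.2.trans (hβ _).2.2⟩
  inv_mem' := by
    intro α hα e
    have h1 := hα (α⁻¹ e)
    have h3 : α (α⁻¹ e) = e := α.apply_symm_apply e
    rw [h3] at h1
    exact ⟨h1.1.symm, h1.2.1.symm, h1.2.2.symm⟩

/-- the function `z` -/
def zc (e : Q1 K) : K := (e : UG K).a - star (e : UG K).r * (e : UG K).b

variable (K) in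
/-- the automorphisms of `Q₁` preserving `z` -/
def UQ : Subgroup (MulAut (Q1 K)) where
  carrier := {α | ∀ e : Q1 K, zc (α e) = zc e}
  one_mem' := fun e => rfl
  mul_mem' := by
    intro α β hα hβ e
    rw [MulAut.mul_apply]
    exact (hα _).trans (hβ _)
  inv_mem' := by
    intro α hα e
    have h1 := hα (α⁻¹ e)
    have h3 : α (α⁻¹ e) = e := α.apply_symm_apply e
    rw [h3] at h1
    exact h1.symm

theorem eq_of_CQ_UQ {α : MulAut (Q1 K)} (hC : α ∈ CQ K) (hU : α ∈ UQ K) : α = 1 := by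
  apply MulEquiv.ext
  intro e
  obtain ⟨h1, h2, h3⟩ := hC e
  have h4 := hU e
  unfold zc at h4
  rw [h1, h3] at h4
  exact ext4 (e := α e) (e' := e) h1 h2 (by linear_combination h4) h3

/-- the inner automorphisms -/
theorem conj_mem_CQ (y : Q1 K) : MulAut.conj y ∈ CQ K := by
  intro e
  rw [MulAut.conj_apply]
  refine ⟨?_, ?_, ?_⟩
  · rw [q_r, q_r, qi_r]; ring
  · rw [q_u1, q_u1, qi_u1]; ring
  · rw [q_b, q_b, qi_b]; ring

theorem inv_mul_mem_center {α : MulAut (Q1 K)} (hα : α ∈ CQ K) (e : Q1 K) : e⁻¹ * α e ∈ Subgroup.center (Q1 K) := by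
  obtain ⟨h1, h2, h3⟩ := hα e
  apply mem_center_of
  · rw [q_r, qi_r, h1]; ring
  · rw [q_u1, qi_u1, h2]; ring
  · rw [q_b, qi_b, h3]; ring

/-- the elements of `CQ` act trivially on the centre -/
theorem CQ_center (h : HypK K p n) {α : MulAut (Q1 K)} (hα : α ∈ CQ K) {z : Q1 K}
    (hz : z ∈ Subgroup.center (Q1 K)) : α z = z := by
  obtain ⟨h1, h2, h3⟩ := coords_of_mem_center h hz
  obtain ⟨θ, hθ⟩ := exists_theta h
  have ha := (z : UG K).ha
  rw [h2, star_zero, mul_zero, add_zero] at ha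
  -- z is a commutator
  set e : Q1 K := mk1 1 0 0 0 (by simp) with he
  set f : Q1 K := mk1 0 0 ((z : UG K).a * θ) 0 (by simp) with hf
  have hzc : e * f = z * (f * e) := by
    apply ext4
    · simp only [q_r, h1]; rw [he, hf]; simp [mk1]
    · simp only [q_u1, h2]; rw [he, hf]; simp [mk1]
    · simp only [q_a, q_r, q_u1, q_b, h1, h2, h3]; rw [he, hf]; simp only [mk1, _root_.add_zero, _root_.star_mul', _root_.one_mul, _root_.zero_sub, _root_.star_one, _root_.star_zero, _root_.MulZeroClass.mul_zero, _root_.sub_zero, _root_.sub_self, _root_.MulZeroClass.zero_mul]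
      linear_combination (z : UG K).a * hθ - star θ * ha
    · simp only [q_b, h3]; rw [he, hf]; simp [mk1]
  have hc : ∀ x y : Q1 K, α x * α y * (x * y)⁻¹ = (x⁻¹ * α x) * (y⁻¹ * α y) := by
    intro x y
    have c1 := Subgroup.mem_center_iff.1 (inv_mul_mem_center hα x)
    have c2 := Subgroup.mem_center_iff.1 (inv_mul_mem_center hα y)
    have e1 : α x = x * (x⁻¹ * α x) := by group
    have e2 : α y = y * (y⁻¹ * α y) := by group
    generalize x⁻¹ * α x = s at *
    generalize y⁻¹ * α y = t at *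
    rw [e1, e2, mul_inv_rev]
    calc x * s * (y * t) * (y⁻¹ * x⁻¹) = x * s * (y * t * y⁻¹) * x⁻¹ := by group
      _ = x * s * t * x⁻¹ := by rw [c2 y]; group
      _ = x * (s * t) * x⁻¹ := by group
      _ = s * t := by
        rw [← mul_assoc x, c1 x, mul_assoc s x t, c2 x]
        group
  have hα2 : α e * α f = α z * (α f * α e) := by
    rw [← map_mul, ← map_mul, ← map_mul, hzc]
  have k1 := hc e f
  have k2 := hc f e
  have c1 := Subgroup.mem_center_iff.1 (inv_mul_mem_center hα f) (e⁻¹ * α e)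
  have k3 : α e * α f * (e * f)⁻¹ = α f * α e * (f * e)⁻¹ := by rw [k1, k2, c1]
  rw [hα2, hzc, mul_inv_rev] at k3
  have k4 : α z * (α f * α e * (f * e)⁻¹) * z⁻¹ = α f * α e * (f * e)⁻¹ := by
    refine Eq.trans ?_ k3
    group
  have c3 : (α f * α e * (f * e)⁻¹) ∈ Subgroup.center (Q1 K) := by
    rw [k2]
    exact (Subgroup.center (Q1 K)).mul_mem (inv_mul_mem_center hα f) (inv_mul_mem_center hα e)
  have c4 := Subgroup.mem_center_iff.1 c3 (α z)
  rw [c4] at k4
  have k5 : α z * z⁻¹ = 1 := by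
    apply mul_left_cancel (a := α f * α e * (f * e)⁻¹)
    rw [← mul_assoc, k4, mul_one]
  exact mul_inv_eq_one.1 k5

end Group

end Cfsg.Agent.H541.PU

private theorem dce_3c8de594726a : _root_.True := by
  try have : _root_.True := by simp only [_root_.Cfsg.Agent.H756.PU.UG.mk.congr_simp]
  try have : _root_.True := by simp only [_root_.Cfsg.Agent.H541.PU.mk1.eq_1]
  exact _root_.True.intro
end

-- part: H541/PU/L1
section
prune_inst 0xe4302204010200000000001260003c6292000402002c0010100001060482946008040821b8000d020012084420380048110000000000000000000800011c0180002010048008a000000006002004000000000000000000000000000000041000000000000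
set_option linter.all false
open scoped Cfsg.Agent.FastGrp

/-!
# S5258: `StL1` from `StL1a` and `StLift` (helper541)
-/

set_option autoImplicit false

namespace Cfsg.Agent.H541.PU

open Cfsg Cfsg.FusionSystem Cfsg.Agent.H756.PU Cfsg.Agent.H802

universe u

/-! ### generalities -/
section Gen

variable {G : Type*} [Group G]

theorem not_dvd_of_syl [Finite G] {p : ℕ} [Fact p.Prime] {P Γ L : Subgroup G} (hP : IsPGroup p P)
    (hs : ∀ Q : Subgroup G, Q ≤ Γ → IsPGroup p Q → ∃ g ∈ Γ, ∀ x ∈ Q, g * x * g⁻¹ ∈ P) (hPL : P ≤ L)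
    (hL : L ≤ Γ) : ¬ p ∣ P.relIndex L := by
  have h1 : IsPGroup p (P.subgroupOf L) := hP.comap_of_injective L.subtype L.subtype_injective
  obtain ⟨Q, hQ⟩ := h1.exists_le_sylow
  obtain ⟨g, -, hg⟩ := hs ((Q : Subgroup L).map L.subtype) ((Subgroup.map_subtype_le _).trans hL)
    (Q.isPGroup'.map _)
  have h2 : Nat.card (Q : Subgroup L) ≤ Nat.card P := by
    have h3 : Nat.card (Q : Subgroup L) = Nat.card ((Q : Subgroup L).map L.subtype) :=
      (Nat.card_congr ((Q : Subgroup L).equivMapOfInjective _ L.subtype_injective).toEquiv)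
    rw [h3]
    refine Nat.card_le_card_of_injective (fun x => (⟨g * x * g⁻¹, hg x x.2⟩ : P)) ?_
    intro x y hxy
    have := congrArg Subtype.val hxy
    exact Subtype.ext (mul_left_cancel (mul_right_cancel this))
  have h4 : Nat.card P = Nat.card (P.subgroupOf L) :=
    (Nat.card_congr (Subgroup.subgroupOfEquivOfLe hPL).toEquiv).symm
  have h5 : P.subgroupOf L = (Q : Subgroup L) := Subgroup.eq_of_le_of_card_ge hQ (by rw [← h4]; exact h2)
  rw [Subgroup.relIndex, h5]
  exact Q.not_dvd_index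

theorem le_normalizer_of_conj {H L : Subgroup G} (h : ∀ x ∈ H, ∀ y ∈ L, x * y * x⁻¹ ∈ L) :
    H ≤ Subgroup.normalizer (L : Set G) := by
  intro x hx
  rw [Subgroup.mem_normalizer_iff]
  intro y
  refine ⟨fun hy => h x hx y hy, fun hy => ?_⟩
  have h1 := h x⁻¹ (H.inv_mem hx) _ hy
  have h2 : x⁻¹ * (x * y * x⁻¹) * x⁻¹⁻¹ = y := by group
  rwa [h2] at h1

theorem mem_sup_iff_map {L C : Subgroup G} [C.Normal] {x : G} :
    x ∈ L ⊔ C ↔ QuotientGroup.mk' C x ∈ L.map (QuotientGroup.mk' C) := by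
  rw [← Subgroup.mem_comap, Subgroup.comap_map_eq, QuotientGroup.ker_mk']

end Gen

variable {K : Type u} [Field K] [StarRing K] {p n : ℕ}

/-! ### the group `CQ` -/

theorem map_center {α : MulAut (Q1 K)} {z : Q1 K} (hz : z ∈ Subgroup.center (Q1 K)) :
    α z ∈ Subgroup.center (Q1 K) := by
  rw [Subgroup.mem_center_iff] at hz ⊢
  intro g
  have := congrArg α (hz (α.symm g))
  rwa [map_mul, map_mul, MulEquiv.apply_symm_apply] at this

theorem CQ_normal (h : HypK K p n) : (CQ K).Normal := by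
  refine ⟨fun c hc γ e => ?_⟩
  rw [MulAut.mul_apply, MulAut.mul_apply]
  set f := γ⁻¹ e with hf
  have h1 : γ f = e := γ.apply_symm_apply e
  have h2 : c f = f * (f⁻¹ * c f) := by group
  obtain ⟨k1, k2, k3⟩ := coords_of_mem_center h (map_center (α := γ) (inv_mul_mem_center hc f))
  rw [h2, map_mul, h1, q_r, q_u1, q_b, k1, k2, k3]
  simp

theorem CQ_comm (h : HypK K p n) {α β : MulAut (Q1 K)} (hα : α ∈ CQ K) (hβ : β ∈ CQ K) : α * β = β * α := by
  apply MulEquiv.ext
  intro e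
  rw [MulAut.mul_apply, MulAut.mul_apply]
  have hα' := inv_mul_mem_center hα e
  have hβ' := inv_mul_mem_center hβ e
  have h1 : α e = e * (e⁻¹ * α e) := by group
  have h2 : β e = e * (e⁻¹ * β e) := by group
  generalize e⁻¹ * α e = s at *
  generalize e⁻¹ * β e = t at *
  rw [h2, map_mul, CQ_center h hα hβ', h1, map_mul, CQ_center h hβ hα', h2, mul_assoc, mul_assoc,
    Subgroup.mem_center_iff.1 hβ' s]

theorem CQ_pow (h : HypK K p n) {α : MulAut (Q1 K)} (hα : α ∈ CQ K) (e : Q1 K) (k : ℕ) :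
    (α ^ k) e = e * (e⁻¹ * α e) ^ k := by
  induction k with
  | zero => simp only [_root_.pow_zero, _root_.MulAut.one_apply, _root_.mul_one]
  | succ k ih =>
    rw [pow_succ', MulAut.mul_apply, ih, map_mul, map_pow, CQ_center h hα (inv_mul_mem_center hα e), pow_succ',
      ← mul_assoc, mul_inv_cancel_left]

theorem CQ_pgroup (hG : StGrp.{u}) (h : HypK K p n) : IsPGroup p (CQ K) := by
  rintro ⟨α, hα⟩
  refine ⟨n * 10, ?_⟩
  apply Subtype.ext
  change α ^ (p ^ (n * 10)) = 1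
  apply MulEquiv.ext
  intro e
  rw [CQ_pow h hα]
  have h1 : (e⁻¹ * α e) ^ (p ^ (n * 10)) = 1 := by
    apply Subtype.ext
    rw [Subgroup.coe_pow, pow_mul, ← (hG h).1]
    exact pow_card_eq_one'
  rw [h1, mul_one]
  rfl

/-! ### inner automorphisms -/

variable (K) in
/-- the inner automorphisms -/
abbrev IQ : Subgroup (MulAut (Q1 K)) := (MulAut.conj : Q1 K →* MulAut (Q1 K)).range

theorem conj_conj (γ : MulAut (Q1 K)) (y : Q1 K) : γ * MulAut.conj y * γ⁻¹ = MulAut.conj (γ y) := by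
  apply MulEquiv.ext
  intro e
  rw [MulAut.mul_apply, MulAut.mul_apply, MulAut.conj_apply, MulAut.conj_apply, map_mul, map_mul, map_inv]
  congr 2
  exact γ.apply_symm_apply e

instance IQ_normal : (IQ K).Normal := by
  refine ⟨?_⟩
  rintro _ ⟨y, rfl⟩ γ
  exact ⟨γ y, (conj_conj γ y).symm⟩

theorem IQ_le_CQ : IQ K ≤ CQ K := by
  rintro _ ⟨y, rfl⟩
  exact conj_mem_CQ y

/-- conjugation by an element of the whole group -/
noncomputable abbrev cj (s : UG K) : MulAut (Q1 K) := MulAut.conjNormal s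

theorem cj_apply (s : UG K) (e : Q1 K) : ((cj s e : Q1 K) : UG K) = s * e * s⁻¹ := rfl

theorem mem_P_iff {α : MulAut (Q1 K)} : α ∈ autInducedBy ⊤ (Q1 K) ↔ ∃ s, α = cj s := by
  rw [mem_autInducedBy_iff]
  constructor
  · rintro ⟨g, -, hg⟩
    exact ⟨g, MulEquiv.ext fun e => Subtype.ext (hg e)⟩
  · rintro ⟨s, rfl⟩
    exact ⟨s, Subgroup.mem_top _, fun e => rfl⟩

theorem cj_mem (s : UG K) : cj s ∈ autInducedBy ⊤ (Q1 K) := mem_P_iff.2 ⟨s, rfl⟩

theorem cj_coe (y : Q1 K) : cj (y : UG K) = MulAut.conj y := MulEquiv.ext fun _ => Subtype.ext rfl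

theorem IQ_le_P : IQ K ≤ autInducedBy ⊤ (Q1 K) := by
  rintro _ ⟨y, rfl⟩
  rw [← cj_coe]
  exact cj_mem _

theorem P_le_Lam : autInducedBy ⊤ (Q1 K) ≤ Lam1 K := le_sup_left

/-- the complement of `Q₁` -/
def s0 (s c : K) (h : c + star c + s * star s = 0) : UG K :=
  { r := 0, u1 := 0, u2 := s, a := 0, b := 0, c := c, ha := by simp, hc := h }

theorem cj_s0 {s c : K} (h : c + star c + s * star s = 0) (e : Q1 K) :
    ((cj (s0 s c h) e : Q1 K) : UG K).r = (e : UG K).r ∧
    ((cj (s0 s c h) e : Q1 K) : UG K).u1 = (e : UG K).u1 - (e : UG K).r * s ∧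
    ((cj (s0 s c h) e : Q1 K) : UG K).b = (e : UG K).b + (e : UG K).r * star c + (e : UG K).u1 * star s ∧
    zc (cj (s0 s c h) e) = zc e := by
  have h1 := q_u2 e
  have h2 := q_c e
  refine ⟨?_, ?_, ?_, ?_⟩
  · rw [cj_apply]; simp only [s0, _root_.Cfsg.Agent.H756.PU.UG.mul_r, _root_.zero_add, _root_.Cfsg.Agent.H756.PU.UG.inv_r, _root_.neg_zero, _root_.add_zero]
  · rw [cj_apply]; simp only [s0, _root_.Cfsg.Agent.H756.PU.UG.mul_u1, _root_.zero_add, _root_.Cfsg.Agent.H541.PU.q_u2, _root_.MulZeroClass.mul_zero, _root_.add_zero, _root_.Cfsg.Agent.H756.PU.UG.inv_u1, _root_.neg_zero, _root_.MulZeroClass.zero_mul, _root_.Cfsg.Agent.H756.PU.UG.mul_r, _root_.Cfsg.Agent.H756.PU.UG.inv_u2, _root_.mul_neg]; ring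
  · rw [cj_apply]; simp only [s0, UG.mul_b, UG.inv_b, UG.d, _root_.zero_add, _root_.Cfsg.Agent.H541.PU.q_c, _root_.MulZeroClass.mul_zero, _root_.add_zero, _root_.Cfsg.Agent.H541.PU.q_u2, _root_.star_zero, _root_.sub_zero, _root_.neg_zero, _root_.sub_self, _root_.MulZeroClass.zero_mul, _root_.Cfsg.Agent.H756.PU.UG.mul_r, _root_.Cfsg.Agent.H756.PU.UG.inv_c, _root_.Cfsg.Agent.H756.PU.UG.mul_u1, _root_.Cfsg.Agent.H756.PU.UG.inv_u2, _root_.star_neg, _root_.mul_neg, _root_.sub_neg_eq_add]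
  · unfold zc
    rw [cj_apply]
    simp only [s0, UG.mul_a, UG.mul_b, UG.inv_a, UG.inv_b, UG.d, _root_.zero_add, _root_.Cfsg.Agent.H541.PU.q_u2, _root_.MulZeroClass.zero_mul, _root_.sub_zero, _root_.mul_neg, _root_.neg_zero, _root_.add_zero, _root_.star_zero, _root_.MulZeroClass.mul_zero, _root_.Cfsg.Agent.H541.PU.q_c, _root_.sub_self, _root_.Cfsg.Agent.H756.PU.UG.mul_r, _root_.Cfsg.Agent.H756.PU.UG.inv_u2, _root_.Cfsg.Agent.H756.PU.UG.inv_u1, _root_.Cfsg.Agent.H756.PU.UG.inv_c, _root_.Cfsg.Agent.H756.PU.UG.mul_u1, _root_.star_neg, _root_.sub_neg_eq_add, _root_.Cfsg.Agent.H756.PU.UG.inv_r]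
    ring

theorem cj_mem_sup (s : UG K) : cj s ∈ IQ K ⊔ UQ K := by
  have hmem : s * (s0 s.u2 s.c s.hc)⁻¹ ∈ Q1 K := by
    refine ⟨?_, ?_⟩
    · simp [s0]
    · have hc := s.hc
      simp only [UG.mul_c, UG.inv_c, UG.inv_u2, s0, star_neg]
      linear_combination hc
  have h1 : s = ((⟨_, hmem⟩ : Q1 K) : UG K) * s0 s.u2 s.c s.hc := by simp
  have h2 : cj s = MulAut.conj (⟨_, hmem⟩ : Q1 K) * cj (s0 s.u2 s.c s.hc) := by
    rw [← cj_coe, ← map_mul, ← h1]
  rw [h2]
  refine Subgroup.mul_mem_sup ⟨_, rfl⟩ ?_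
  intro e
  exact (cj_s0 s.hc e).2.2.2

theorem w1_mem_UQ {κ : K} {w : MulAut (Q1 K)} (hw : IsW1 κ w) : w ∈ UQ K := by
  intro e
  unfold zc
  rw [hw.r, hw.a, hw.b, star_mul', star_neg, star_inv₀]
  have h1 : star κ = -κ := by linear_combination hw.tr
  have h0 := hw.ne
  rw [h1]
  field_simp
  ring

theorem Lam_le : Lam1 K ≤ IQ K ⊔ UQ K := by
  refine sup_le ?_ ?_
  · intro α hα
    obtain ⟨s, rfl⟩ := mem_P_iff.1 hα
    exact cj_mem_sup s
  · rw [Subgroup.closure_le]
    rintro w ⟨κ, hw⟩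
    exact Subgroup.mem_sup_right (w1_mem_UQ hw)

theorem Lam_inf_le : Lam1 K ⊓ CQ K ≤ IQ K := by
  rintro α ⟨h1, h2⟩
  have h3 := Lam_le h1
  rw [Subgroup.mem_sup_of_normal_left] at h3
  obtain ⟨i, hi, v, hv, rfl⟩ := h3
  have h4 : v ∈ CQ K := by
    have := (CQ K).mul_mem ((CQ K).inv_mem (IQ_le_CQ hi)) h2
    rwa [inv_mul_cancel_left] at this
  rw [eq_of_CQ_UQ h4 hv, mul_one]
  exact hi

/-! ### the Weyl element -/

theorem eq_of_coords {α β : MulAut (Q1 K)} (hα : α ∈ UQ K) (hβ : β ∈ UQ K)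
    (h : ∀ e : Q1 K, ((α e : Q1 K) : UG K).r = ((β e : Q1 K) : UG K).r ∧
      ((α e : Q1 K) : UG K).u1 = ((β e : Q1 K) : UG K).u1 ∧ ((α e : Q1 K) : UG K).b = ((β e : Q1 K) : UG K).b) :
    α = β := by
  apply MulEquiv.ext
  intro e
  obtain ⟨h1, h2, h3⟩ := h e
  have h4 := (hα e).trans (hβ e).symm
  unfold zc at h4
  rw [h1, h3] at h4
  exact ext4 h1 h2 (by linear_combination h4) h3

theorem w1_inv {κ : K} {w : MulAut (Q1 K)} (hw : IsW1 κ w) (e : Q1 K) :
    ((w⁻¹ e : Q1 K) : UG K).r = κ⁻¹ * (e : UG K).b ∧ ((w⁻¹ e : Q1 K) : UG K).u1 = (e : UG K).u1 ∧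
    ((w⁻¹ e : Q1 K) : UG K).b = -κ * (e : UG K).r := by
  have h3 : w (w⁻¹ e) = e := w.apply_symm_apply e
  set f := w⁻¹ e
  have h1 := hw.r f
  have h2 := hw.u1 f
  have h4 := hw.b f
  rw [h3] at h1 h2 h4
  have h0 := hw.ne
  refine ⟨?_, h2.symm, ?_⟩
  · rw [h4, inv_mul_cancel_left₀ h0]
  · rw [h1]
    field_simp

theorem w1_eq {κ : K} {w : MulAut (Q1 K)} (hw : IsW1 κ w) :
    ∃ x ∈ autInducedBy ⊤ (Q1 K), w = x * (w⁻¹ * x * w) * x := by
  have h0 := hw.ne
  have hc : star κ + star (star κ) + (0 : K) * star (0 : K) = 0 := by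
    rw [star_star]
    linear_combination hw.tr
  set x := cj (s0 (0 : K) (star κ) hc) with hx
  have hxU : x ∈ UQ K := fun e => (cj_s0 _ e).2.2.2
  have hwU := w1_mem_UQ hw
  have hxc : ∀ e : Q1 K, ((x e : Q1 K) : UG K).r = (e : UG K).r ∧ ((x e : Q1 K) : UG K).u1 = (e : UG K).u1 ∧
      ((x e : Q1 K) : UG K).b = (e : UG K).b + (e : UG K).r * κ := by
    intro e
    obtain ⟨k1, k2, k3, -⟩ := cj_s0 hc e
    refine ⟨k1, ?_, ?_⟩
    · rw [k2]; ring
    · rw [k3, star_star, star_zero]; ring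
  refine ⟨x, cj_mem _, eq_of_coords hwU ?_ ?_⟩
  · exact (UQ K).mul_mem ((UQ K).mul_mem hxU ((UQ K).mul_mem ((UQ K).mul_mem ((UQ K).inv_mem hwU) hxU) hwU)) hxU
  intro e
  simp only [MulAut.mul_apply]
  obtain ⟨a1, a2, a3⟩ := hxc (w⁻¹ (x (w (x e))))
  obtain ⟨b1, b2, b3⟩ := w1_inv hw (x (w (x e)))
  obtain ⟨c1, c2, c3⟩ := hxc (w (x e))
  obtain ⟨d1, d2, d3⟩ := hxc e
  rw [a1, a2, a3, b1, b2, b3, c1, c2, c3, hw.r, hw.u1, hw.b, hw.r, hw.u1, hw.b, d1, d2, d3]
  refine ⟨?_, rfl, ?_⟩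
  · field_simp
    ring
  · field_simp
    ring

/-! ### the torus -/

theorem tor_conj_P {d : MulAut (UG K)} {δ : MulAut (Q1 K)} (hd : IsR d δ) {α : MulAut (Q1 K)}
    (hα : α ∈ autInducedBy ⊤ (Q1 K)) : δ * α * δ⁻¹ ∈ autInducedBy ⊤ (Q1 K) := by
  obtain ⟨s, rfl⟩ := mem_P_iff.1 hα
  refine mem_P_iff.2 ⟨d s, ?_⟩
  apply MulEquiv.ext
  intro e
  apply Subtype.ext
  rw [MulAut.mul_apply, MulAut.mul_apply, hd, cj_apply, cj_apply, map_mul, map_mul, map_inv, ← hd]
  congr 2
  exact congrArg _ (δ.apply_symm_apply e)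

theorem tor_conj_W {d : MulAut (UG K)} {x1 x2 : K} {τ : K ≃+* K} (ht : IsTor d x1 x2 τ) {δ : MulAut (Q1 K)}
    (hd : IsR d δ) {κ : K} {w : MulAut (Q1 K)} (hw : IsW1 κ w) :
    IsW1 (x2 * star x2 * τ κ) (δ * w * δ⁻¹) := by
  have h1 := ht.ne1
  have h2 := ht.ne2
  have h2' : star x2 ≠ 0 := star_ne_zero.2 h2
  have h1' : star x1 ≠ 0 := star_ne_zero.2 h1
  have h0 := hw.ne
  have hτ0 : τ κ ≠ 0 := by simpa using h0
  have hinv : ∀ e : Q1 K, δ (δ⁻¹ e) = e := fun e => δ.apply_symm_apply e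
  have key : ∀ P : Q1 K → Prop, (∀ f : Q1 K, P (δ f)) → ∀ e, P e := by
    intro P h e
    rw [← hinv e]
    exact h _
  have hδ : ∀ f : Q1 K, (δ * w * δ⁻¹) (δ f) = δ (w f) := by
    intro f
    rw [MulAut.mul_apply, MulAut.mul_apply]
    congr 2
    exact δ.symm_apply_apply f
  refine ⟨?_, ?_, key _ fun f => ?_, key _ fun f => ?_, key _ fun f => ?_, key _ fun f => ?_⟩
  · exact mul_ne_zero (mul_ne_zero h2 h2') hτ0
  · rw [star_mul', star_mul', star_star, ← ht.tst]
    have := congrArg τ hw.tr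
    rw [map_add, map_zero] at this
    linear_combination x2 * star x2 * this
  · rw [hδ, hd, hd, ht.r, ht.b, hw.r, map_mul, map_neg, map_inv₀]
    field_simp
  · rw [hδ, hd, hd, ht.u1, ht.u1, hw.u1]
  · rw [hδ, hd, hd, ht.a, ht.a, ht.r, ht.b, hw.a]
    simp only [map_add, map_sub, map_mul, ht.tst, star_mul', star_inv₀, star_star]
    field_simp
  · rw [hδ, hd, hd, ht.r, ht.b, hw.b, map_mul]
    field_simp

theorem tor_conj_Lam {d : MulAut (UG K)} {x1 x2 : K} {τ : K ≃+* K} (ht : IsTor d x1 x2 τ) {δ : MulAut (Q1 K)}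
    (hd : IsR d δ) {l : MulAut (Q1 K)} (hl : l ∈ Lam1 K) : δ * l * δ⁻¹ ∈ Lam1 K := by
  have h : Lam1 K ≤ (Lam1 K).comap (MulAut.conj δ).toMonoidHom := by
    refine sup_le ?_ ?_
    · intro α hα
      exact P_le_Lam (tor_conj_P hd hα)
    · rw [Subgroup.closure_le]
      rintro w ⟨κ, hw⟩
      exact Subgroup.mem_sup_right (Subgroup.subset_closure ⟨_, tor_conj_W ht hd hw⟩)
  exact h hl

/-! ### restrictions -/

/-- the restrictions of the elements of `D` to `Q₁` -/
def RD (D : Subgroup (MulAut (UG K))) : Subgroup (MulAut (Q1 K)) where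
  carrier := {δ | ∃ d ∈ D, IsR d δ}
  one_mem' := ⟨1, D.one_mem, fun e => rfl⟩
  mul_mem' := by
    rintro a b ⟨d, hd, h⟩ ⟨d', hd', h'⟩
    exact ⟨d * d', D.mul_mem hd hd', fun e => by rw [MulAut.mul_apply, MulAut.mul_apply, h, h']⟩
  inv_mem' := by
    rintro a ⟨d, hd, h⟩
    refine ⟨d⁻¹, D.inv_mem hd, fun e => ?_⟩
    have h1 := h (a⁻¹ e)
    have h3 : a (a⁻¹ e) = e := a.apply_symm_apply e
    rw [h3] at h1
    rw [h1]
    exact (d.symm_apply_apply _).symm

theorem IsR_pow {d : MulAut (UG K)} {δ : MulAut (Q1 K)} (h : IsR d δ) (k : ℕ) : IsR (d ^ k) (δ ^ k) := by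
  induction k with
  | zero => exact fun e => rfl
  | succ k ih =>
    intro e
    rw [pow_succ', pow_succ', MulAut.mul_apply, MulAut.mul_apply, h, ih]

theorem RD_coprime [Finite (UG K)] {D : Subgroup (MulAut (UG K))} (hp : p.Prime) (hD : (Nat.card D).Coprime p) :
    (Nat.card (RD D)).Coprime p := by
  haveI : Fact p.Prime := ⟨hp⟩
  rw [Nat.coprime_comm, Nat.Prime.coprime_iff_not_dvd hp] at hD ⊢
  intro hdvd
  haveI : Finite (MulAut (Q1 K)) := inferInstance
  obtain ⟨⟨δ, d, hd, h⟩, hx⟩ := exists_prime_orderOf_dvd_card' p hdvd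
  apply hD
  rw [← hx]
  apply orderOf_dvd_of_pow_eq_one
  apply Subtype.ext
  change δ ^ (Nat.card D) = 1
  have h1 : d ^ (Nat.card D) = 1 := by
    have : (⟨d, hd⟩ : D) ^ (Nat.card D) = 1 := pow_card_eq_one'
    exact congrArg Subtype.val this
  apply MulEquiv.ext
  intro e
  apply Subtype.ext
  rw [IsR_pow h, h1]
  rfl

theorem exists_restr {α : MulAut (UG K)} {x1 x2 : K} {τ : K ≃+* K} (ht : IsTor α x1 x2 τ) :
    ∃ δ : MulAut (Q1 K), IsR α δ := by
  have h2' : star x2 ≠ 0 := star_ne_zero.2 ht.ne2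
  have h1 : ∀ e ∈ Q1 K, α e ∈ Q1 K := by
    rintro e ⟨k1, k2⟩
    exact ⟨by rw [ht.u2, k1]; simp, by rw [ht.c, k2]; simp only [_root_.map_zero, _root_.MulZeroClass.mul_zero]⟩
  have h2 : ∀ e ∈ Q1 K, α.symm e ∈ Q1 K := by
    rintro e ⟨k1, k2⟩
    have e1 := ht.u2 (α.symm e)
    have e2 := ht.c (α.symm e)
    rw [MulEquiv.apply_symm_apply] at e1 e2
    rw [k1] at e1
    rw [k2] at e2
    refine ⟨?_, ?_⟩
    · have := (mul_eq_zero.1 e1.symm).resolve_left ht.ne2
      simpa using this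
    · have := (mul_eq_zero.1 e2.symm).resolve_left (mul_ne_zero ht.ne2 h2')
      simpa using this
  refine ⟨{ toFun := fun e => ⟨α e, h1 e e.2⟩
            invFun := fun e => ⟨α.symm e, h2 e e.2⟩
            left_inv := fun e => Subtype.ext (by simp)
            right_inv := fun e => Subtype.ext (by simp)
            map_mul' := fun x y => Subtype.ext (by simp) }, fun e => rfl⟩

theorem fix_trivial (hG : StGrp.{u}) (h : HypK K p n) {D : Subgroup (MulAut (UG K))}
    (hT : HasTor D (fun t => t * (star t)⁻¹) (fun t => t ^ 2 * (star t)⁻¹)) {c : MulAut (Q1 K)} (hc : c ∈ CQ K)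
    (hcomm : ∀ δ ∈ RD D, δ * c = c * δ) : c = 1 := by
  obtain ⟨t, ht0, hts⟩ := exists_ne_star h
  have hs0 : star t ≠ 0 := star_ne_zero.2 ht0
  obtain ⟨α, hα⟩ := (hG h).2.2.1 (t * (star t)⁻¹) (t ^ 2 * (star t)⁻¹) (RingEquiv.refl K)
    (mul_ne_zero ht0 (inv_ne_zero hs0)) (mul_ne_zero (pow_ne_zero _ ht0) (inv_ne_zero hs0))
  have hαD := hT t ht0 α hα
  obtain ⟨δ, hδ⟩ := exists_restr hα
  have hδc := hcomm δ ⟨α, hαD, hδ⟩
  have ht1 : t - 1 ≠ 0 := by
    intro h1
    apply hts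
    rw [sub_eq_zero.1 h1, star_one]
  have hs1 : star t - 1 ≠ 0 := by
    intro h1
    apply ht1
    have h2 : star (star t) = 1 := by rw [sub_eq_zero.1 h1, star_one]
    rw [star_star] at h2
    rw [h2, sub_self]
  have hd1 : t - star t ≠ 0 := sub_ne_zero.2 hts
  -- `δ` is trivial on the centre
  have hδz : ∀ z ∈ Subgroup.center (Q1 K), δ z = z := by
    intro z hz
    obtain ⟨k1, k2, k3⟩ := coords_of_mem_center h hz
    apply ext4
    · rw [hδ, hα.r, k1]; simp only [_root_.mul_inv_rev, _root_.inv_inv, _root_.RingEquiv.refl_apply, _root_.MulZeroClass.mul_zero]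
    · rw [hδ, hα.u1, k2]; simp only [_root_.RingEquiv.refl_apply, _root_.MulZeroClass.mul_zero]
    · rw [hδ, hα.a]
      simp only [star_mul', star_inv₀, star_star, RingEquiv.refl_apply]
      field_simp
    · rw [hδ, hα.b, k3]; simp only [_root_.star_mul', _root_.star_pow, _root_.star_inv₀, _root_.star_star, _root_.RingEquiv.refl_apply, _root_.MulZeroClass.mul_zero]
  have hg : ∀ e : Q1 K, c (δ e * e⁻¹) = δ e * e⁻¹ := by
    intro e
    have h1 : c (δ e) = δ (c e) := by
      rw [← MulAut.mul_apply, ← MulAut.mul_apply, hδc]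
    have h2 : c e = e * (e⁻¹ * c e) := by group
    rw [map_mul, map_inv, h1, h2, map_mul, hδz _ (inv_mul_mem_center hc e)]
    group
  apply MulEquiv.ext
  intro f
  change c f = f
  obtain ⟨e, he1, he2, he3⟩ := exists_mk h ((f : UG K).r * (t / (1 - t))) ((f : UG K).u1 * (star t / (t - star t)))
    ((f : UG K).b / (star t - 1))
  have ht1' : 1 - t ≠ 0 := by
    intro h1
    apply ht1
    linear_combination -h1
  have hz : (δ e * e⁻¹)⁻¹ * f ∈ Subgroup.center (Q1 K) := by
    apply mem_center_of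
    · rw [q_r, qi_r, q_r, qi_r, hδ, hα.r, he1]
      simp only [RingEquiv.refl_apply]
      field_simp
      ring
    · rw [q_u1, qi_u1, q_u1, qi_u1, hδ, hα.u1, he2]
      simp only [RingEquiv.refl_apply]
      field_simp
      ring
    · rw [q_b, qi_b, q_b, qi_b, hδ, hα.b, he3]
      simp only [RingEquiv.refl_apply, star_mul', star_pow, star_inv₀, star_star]
      field_simp
      ring
  have h1 : f = (δ e * e⁻¹) * ((δ e * e⁻¹)⁻¹ * f) := by group
  rw [h1, map_mul, hg, CQ_center h hc hz]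

/-! ### the theorem -/

/-- **(L1)** -/
theorem stL1 (hG : StGrp.{u}) (hLift : StLift.{u}) (h1a : StL1a.{u}) : StL1.{u} := by
  intro K _ _ p n h Γ D hPar hT
  obtain ⟨hTor, hA1, hA2⟩ := h1a h Γ D hPar hT
  refine ⟨hTor, ?_⟩
  haveI : Fact p.Prime := ⟨h.pp⟩
  haveI hCN := CQ_normal h
  haveI : Finite (UG K) := by
    apply Nat.finite_of_card_ne_zero
    rw [(hG h).1]
    exact pow_ne_zero _ (pow_ne_zero _ h.pp.ne_zero)
  haveI : Finite (MulAut (Q1 K)) := inferInstance
  set P : Subgroup (MulAut (Q1 K)) := autInducedBy ⊤ (Q1 K) with hP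
  have hPp : IsPGroup p P := isPGroup_autInducedBy (hG h).2.1 _
  set L : Subgroup (MulAut (Q1 K)) := Subgroup.closure {x | ∃ γ ∈ Γ, ∃ y ∈ P, x = γ * y * γ⁻¹} with hL
  have agree : ∀ γ l : MulAut (Q1 K), (∀ e : Q1 K, ((γ e : Q1 K) : UG K).r = ((l e : Q1 K) : UG K).r ∧
      ((γ e : Q1 K) : UG K).u1 = ((l e : Q1 K) : UG K).u1 ∧ ((γ e : Q1 K) : UG K).b = ((l e : Q1 K) : UG K).b) →
      γ * l⁻¹ ∈ CQ K := by
    intro γ l hh e
    rw [MulAut.mul_apply]
    have h1 := hh (l⁻¹ e)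
    have h3 : l (l⁻¹ e) = e := l.apply_symm_apply e
    rwa [h3] at h1
  have hPL : P ≤ L := fun y hy => Subgroup.subset_closure ⟨1, Γ.one_mem, y, hy, by simp⟩
  have hLΓ : L ≤ Γ := by
    rw [hL, Subgroup.closure_le]
    rintro _ ⟨γ, hγ, y, hy, rfl⟩
    exact Γ.mul_mem (Γ.mul_mem hγ (hPar.indu hy)) (Γ.inv_mem hγ)
  have hRΓ : RD D ≤ Γ := by
    rintro δ ⟨d, hd, hh⟩
    exact hPar.D_res d hd δ hh
  have hRLam : ∀ δ ∈ RD D, ∀ l ∈ Lam1 K, δ * l * δ⁻¹ ∈ Lam1 K := by
    rintro δ ⟨d, hd, hh⟩ l hl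
    obtain ⟨x1, x2, τ, ht⟩ := (hG h).2.2.2.1 d (hPar.D_le hd)
    exact tor_conj_Lam ht hh hl
  have hLΓN : ∀ γ ∈ Γ, ∀ x ∈ L, γ * x * γ⁻¹ ∈ L := by
    intro γ hγ
    have : L ≤ L.comap (MulAut.conj γ).toMonoidHom := by
      rw [hL, Subgroup.closure_le]
      rintro _ ⟨γ', hγ', y, hy, rfl⟩
      refine Subgroup.subset_closure ⟨γ * γ', Γ.mul_mem hγ hγ', y, hy, ?_⟩
      simp only [MulEquiv.toMonoidHom_eq_coe, MonoidHom.coe_coe, MulAut.conj_apply]
      group
    exact fun x hx => this hx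
  -- elements of `Γ`
  have hdec : ∀ γ ∈ Γ, ∃ l ∈ Lam1 K, ∃ δ ∈ RD D, ∃ c ∈ CQ K, γ = c * (l * δ) := by
    intro γ hγ
    obtain ⟨l, hl, d, hd, δ, hδ, hh⟩ := hA2 γ hγ
    exact ⟨l, hl, δ, ⟨d, hd, hδ⟩, γ * (l * δ)⁻¹, agree _ _ hh, by group⟩
  have hN : ∀ γ ∈ Γ, ∀ x ∈ Lam1 K ⊔ CQ K, γ * x * γ⁻¹ ∈ Lam1 K ⊔ CQ K := by
    intro γ hγ x hx
    obtain ⟨l, hl, δ, hδ, c, hc, rfl⟩ := hdec γ hγ
    have h1 : δ * x * δ⁻¹ ∈ Lam1 K ⊔ CQ K := by
      have : Lam1 K ⊔ CQ K ≤ (Lam1 K ⊔ CQ K).comap (MulAut.conj δ).toMonoidHom := by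
        refine sup_le ?_ ?_
        · intro y hy
          exact Subgroup.mem_sup_left (hRLam δ hδ y hy)
        · intro y hy
          exact Subgroup.mem_sup_right (hCN.conj_mem y hy δ)
      exact this hx
    have hl' : l ∈ Lam1 K ⊔ CQ K := Subgroup.mem_sup_left hl
    have hc' : c ∈ Lam1 K ⊔ CQ K := Subgroup.mem_sup_right hc
    have h2 := (Lam1 K ⊔ CQ K).mul_mem ((Lam1 K ⊔ CQ K).mul_mem ((Lam1 K ⊔ CQ K).mul_mem hc' hl') h1)
      ((Lam1 K ⊔ CQ K).inv_mem ((Lam1 K ⊔ CQ K).mul_mem hc' hl'))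
    have h3 : c * (l * δ) * x * (c * (l * δ))⁻¹ = c * l * (δ * x * δ⁻¹) * (c * l)⁻¹ := by group
    rw [h3]
    exact h2
  have hsup : L ⊔ CQ K = Lam1 K ⊔ CQ K := by
    apply le_antisymm
    · refine sup_le ?_ le_sup_right
      rw [hL, Subgroup.closure_le]
      rintro _ ⟨γ, hγ, y, hy, rfl⟩
      exact hN γ hγ y (Subgroup.mem_sup_left (P_le_Lam hy))
    · refine sup_le ?_ le_sup_right
      refine sup_le (hPL.trans le_sup_left) ?_
      rw [Subgroup.closure_le]
      rintro w ⟨κ, hw⟩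
      obtain ⟨x, hx, hwx⟩ := w1_eq hw
      obtain ⟨γ, hγ, hh⟩ := hA1 w (Subgroup.mem_sup_right (Subgroup.subset_closure ⟨κ, hw⟩))
      have hγw := agree γ w hh
      have hq : QuotientGroup.mk' (CQ K) γ = QuotientGroup.mk' (CQ K) w := by
        have h1 : QuotientGroup.mk' (CQ K) (γ * w⁻¹) = 1 := (QuotientGroup.eq_one_iff _).2 hγw
        rw [map_mul, map_inv] at h1
        exact mul_inv_eq_one.1 h1
      change w ∈ L ⊔ CQ K
      rw [mem_sup_iff_map, hwx]
      have hx' : QuotientGroup.mk' (CQ K) x ∈ L.map (QuotientGroup.mk' (CQ K)) := ⟨x, hPL hx, rfl⟩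
      have hy' : QuotientGroup.mk' (CQ K) (w⁻¹ * x * w) ∈ L.map (QuotientGroup.mk' (CQ K)) := by
        rw [map_mul, map_mul, map_inv, ← hq, ← map_inv, ← map_mul, ← map_mul]
        have := hLΓN γ⁻¹ (Γ.inv_mem hγ) x (hPL hx)
        rw [inv_inv] at this
        exact ⟨_, this, rfl⟩
      rw [map_mul, map_mul]
      exact Subgroup.mul_mem _ (Subgroup.mul_mem _ hx' hy') hx'
  -- intersections with `CQ`
  have hΓC : Γ ⊓ CQ K ≤ IQ K := by
    obtain ⟨g, hg, hgx⟩ := hPar.syl (Γ ⊓ CQ K) inf_le_left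
      ((CQ_pgroup (K := K) hG h).to_le inf_le_right)
    intro x hx
    have hx' : g⁻¹ * x * g ∈ Γ ⊓ CQ K := by
      refine ⟨Γ.mul_mem (Γ.mul_mem (Γ.inv_mem hg) hx.1) hg, ?_⟩
      have := hCN.conj_mem x hx.2 g⁻¹
      rwa [inv_inv] at this
    have h1 := hgx _ hx'
    have h2 : g * (g⁻¹ * x * g) * g⁻¹ = x := by group
    rw [h2] at h1
    exact Lam_inf_le ⟨P_le_Lam h1, hx.2⟩
  have hLC : L ⊓ CQ K = IQ K :=
    le_antisymm (fun x hx => hΓC ⟨hLΓ hx.1, hx.2⟩) (le_inf (IQ_le_P.trans hPL) IQ_le_CQ)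
  have hLamC : Lam1 K ⊓ CQ K = IQ K :=
    le_antisymm Lam_inf_le (le_inf (IQ_le_P.trans P_le_Lam) IQ_le_CQ)
  have hLL : L = Lam1 K := by
    refine hLift (p := p) (CQ K) L (Lam1 K) P (RD D) hCN (fun x hx y hy => CQ_comm h hx hy) (CQ_pgroup hG h) hsup
      (hLC.trans hLamC.symm) hPL P_le_Lam (hLC.le.trans IQ_le_P) (not_dvd_of_syl hPp hPar.syl hPL hLΓ) ?_ ?_ ?_ ?_
      (RD_coprime h.pp hPar.D_cop) ?_
    · rw [hLC]
      exact le_normalizer_of_conj fun x _ y hy => (IQ_normal (K := K)).conj_mem y hy x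
    · rw [hLC]
      exact le_normalizer_of_conj fun x _ y hy => (IQ_normal (K := K)).conj_mem y hy x
    · exact le_normalizer_of_conj fun x hx y hy => hLΓN x (hRΓ hx) y hy
    · exact le_normalizer_of_conj fun x hx y hy => hRLam x hx y hy
    · intro c hc hcc
      exact fix_trivial hG h hTor hc hcc
  intro γ
  constructor
  · intro hγ
    obtain ⟨l, hl, d, hd, δ, hδ, hh⟩ := hA2 γ hγ
    have hc := agree _ _ hh
    have hδΓ : δ ∈ Γ := hRΓ ⟨d, hd, hδ⟩
    have hlΓ : l ∈ Γ := hLΓ (hLL ▸ hl)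
    have h1 : γ * (l * δ)⁻¹ ∈ IQ K := hΓC ⟨Γ.mul_mem hγ (Γ.inv_mem (Γ.mul_mem hlΓ hδΓ)), hc⟩
    refine ⟨γ * (l * δ)⁻¹ * l, (Lam1 K).mul_mem (P_le_Lam (IQ_le_P h1)) hl, d, hd, δ, hδ, by group⟩
  · rintro ⟨l, hl, d, hd, δ, hδ, rfl⟩
    exact Γ.mul_mem (hLΓ (hLL ▸ hl)) (hRΓ ⟨d, hd, hδ⟩)

end Cfsg.Agent.H541.PU

private theorem dce_af44adef8996 : _root_.True := by
  try have : _root_.True := by simp only [_root_.Cfsg.Agent.H541.PU.s0.congr_simp]
  try have : _root_.True := by simp only [_root_.Cfsg.Agent.H541.PU.s0.eq_1]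
  exact _root_.True.intro
end

-- part: H801/PU/Cnt
section
prune_inst 0xe4306604510200000818001220000040100000020024000060000106094880608d412801082005020806080008000068131000004000000000000000000501000001100481080000200006800004000000000000000000000000000000000000000000000
set_option linter.all false
open scoped Cfsg.Agent.FastGrp

/-!
# S5258: counting in `UG K` (helper801)

* `card_le_of_fiber` : `|X| ≤ |T| |Y|` if `f` maps `X` to `T` with fibers in cosets of `Y`
* `card_lin`, `card_ker`, `card_fix` : solutions of `x^q + ε x = 0`; `exists_tr` : the trace is surjective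
* `finite_UG`, `card_ZS_le`, `card_Z2C_le`, `card_VC_le`, `card_Q2C_le`, `card_Q2Q2`
* `card_VV_ge`, `card_VV_le`, `card_YY_ge`
-/

set_option autoImplicit false

namespace Cfsg.Agent.H801.PU

open Cfsg Cfsg.FusionSystem Cfsg.Agent.H756.PU

universe u

/-- A counting lemma. -/
@[to_additive card_le_of_fiber_add]
theorem card_le_of_fiber {G A : Type*} [Group G] [Finite G] (X Y : Subgroup G) (f : G → A) (T : Set A) [Finite T]
    (hT : ∀ x ∈ X, f x ∈ T) (hf : ∀ x ∈ X, ∀ y ∈ X, f x = f y → x⁻¹ * y ∈ Y) :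
    Nat.card X ≤ Nat.card T * Nat.card Y := by
  classical
  let x0 : A → G := fun t => if h : ∃ x, x ∈ X ∧ f x = t then h.choose else 1
  have hx0 : ∀ x ∈ X, x0 (f x) ∈ X ∧ f (x0 (f x)) = f x := by
    intro x hx
    have h : ∃ y, y ∈ X ∧ f y = f x := ⟨x, hx, rfl⟩
    have e : x0 (f x) = h.choose := dif_pos h
    rw [e]
    exact h.choose_spec
  let φ : X → T × Y := fun x => (⟨f x, hT x x.2⟩, ⟨(x0 (f x))⁻¹ * x, hf _ (hx0 x x.2).1 _ x.2 (hx0 x x.2).2⟩)
  have hφ : Function.Injective φ := by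
    intro x y h
    have h1 : f x = f y := congrArg Subtype.val (congrArg Prod.fst h)
    have h2 : (x0 (f x))⁻¹ * (x : G) = (x0 (f y))⁻¹ * y := congrArg Subtype.val (congrArg Prod.snd h)
    rw [h1] at h2
    exact Subtype.ext (mul_left_cancel h2)
  rw [← Nat.card_prod]
  exact Nat.card_le_card_of_injective φ hφ

section Field

variable {K : Type u} [Field K] [StarRing K] {p n : ℕ}

theorem two_le (h : HypK K p n) : 2 ≤ p ^ n :=
  le_trans h.pp.two_le (Nat.le_self_pow (by have := h.hn; omega) p)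

/-- The equation `x^q + ε x = 0` has at most `q` solutions. -/
theorem card_lin (h : HypK K p n) (ε : K) : Nat.card {x : K | star x + ε * x = 0} ≤ p ^ n := by
  classical
  have := h.fin
  have := Fintype.ofFinite K
  set q := p ^ n with hq
  have hq2 := two_le h
  let P : Polynomial K := Polynomial.X ^ q + Polynomial.C ε * Polynomial.X
  have hdeg : P.natDegree = q := by
    have h1 : (Polynomial.C ε * Polynomial.X : Polynomial K).natDegree < (Polynomial.X ^ q : Polynomial K).natDegree := by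
      rw [Polynomial.natDegree_X_pow]
      refine lt_of_le_of_lt (Polynomial.natDegree_C_mul_le ε _) ?_
      rw [Polynomial.natDegree_X]; omega
    rw [Polynomial.natDegree_add_eq_left_of_natDegree_lt h1, Polynomial.natDegree_X_pow]
  have hP : P ≠ 0 := by
    intro h0
    rw [h0, Polynomial.natDegree_zero] at hdeg
    omega
  have hsub : {x : K | star x + ε * x = 0} ⊆ (P.roots.toFinset : Set K) := by
    intro x hx
    have hx' : star x + ε * x = 0 := hx
    rw [Finset.mem_coe, Multiset.mem_toFinset, Polynomial.mem_roots hP, Polynomial.IsRoot.def]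
    simp only [P, Polynomial.eval_add, Polynomial.eval_pow, Polynomial.eval_X, Polynomial.eval_mul,
      Polynomial.eval_C]
    rw [← h.star_eq, hx']
  calc Nat.card {x : K | star x + ε * x = 0} ≤ Nat.card (P.roots.toFinset : Set K) :=
        Nat.card_mono (Finset.finite_toSet _) hsub
    _ = P.roots.toFinset.card := by
        rw [Nat.card_coe_set_eq, Set.ncard_coe_finset]
    _ ≤ P.roots.card := Multiset.toFinset_card_le _
    _ ≤ P.natDegree := Polynomial.card_roots' P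
    _ = q := hdeg

theorem card_fix_le (h : HypK K p n) : Nat.card {x : K | star x = x} ≤ p ^ n := by
  have h1 := card_lin h (-1)
  have e : {x : K | star x + (-1) * x = 0} = {x : K | star x = x} := by
    ext x
    simp only [Set.mem_setOf_eq]
    constructor
    · intro hx; linear_combination hx
    · intro hx; linear_combination hx
  rwa [e] at h1

theorem card_ker_le (h : HypK K p n) : Nat.card {x : K | x + star x = 0} ≤ p ^ n := by
  have h1 := card_lin h 1
  have e : {x : K | star x + 1 * x = 0} = {x : K | x + star x = 0} := by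
    ext x
    simp only [Set.mem_setOf_eq]
    constructor
    · intro hx; linear_combination hx
    · intro hx; linear_combination hx
  rwa [e] at h1

theorem card_ker (h : HypK K p n) : Nat.card {x : K | x + star x = 0} = p ^ n := by
  have := h.fin
  refine le_antisymm (card_ker_le h) ?_
  let Y : AddSubgroup K :=
    { carrier := {x | star x = x}
      zero_mem' := star_zero K
      add_mem' := fun {a b} ha hb => by
        have ha' : star a = a := ha
        have hb' : star b = b := hb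
        change star (a + b) = a + b
        rw [star_add, ha', hb']
      neg_mem' := fun {a} ha => by
        have ha' : star a = a := ha
        change star (-a) = -a
        rw [star_neg, ha'] }
  have h1 := card_le_of_fiber_add (⊤ : AddSubgroup K) Y (fun x => x - star x) {x : K | x + star x = 0}
    (fun x _ => by
      change x - star x + star (x - star x) = 0
      rw [star_sub, star_star]; ring)
    (fun x _ y _ hxy => by
      have hxy' : x - star x = y - star y := hxy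
      change star (-x + y) = -x + y
      rw [star_add, star_neg]
      linear_combination hxy')
  rw [AddSubgroup.card_top, h.card, pow_two] at h1
  have h2 : Nat.card Y ≤ p ^ n := card_fix_le h
  have h3 : 0 < p ^ n := by have := two_le h; omega
  have h4 := h1.trans (Nat.mul_le_mul_left _ h2)
  exact Nat.le_of_mul_le_mul_right h4 h3

theorem exists_not_fix (h : HypK K p n) : ∃ x : K, star x ≠ x := by
  by_contra hcon
  push Not at hcon
  have := h.fin
  have h1 := card_fix_le h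
  have e : {x : K | star x = x} = Set.univ := Set.eq_univ_of_forall hcon
  rw [e, Nat.card_univ, h.card] at h1
  have := two_le h
  nlinarith

/-- The trace is surjective. -/
theorem exists_tr (h : HypK K p n) (s : K) (hs : star s = s) : ∃ a : K, a + star a = s := by
  have := h.fin
  obtain ⟨a0, ha0⟩ : ∃ a : K, a + star a ≠ 0 := by
    by_contra hcon
    push Not at hcon
    have h1 := card_ker_le h
    have e : {x : K | x + star x = 0} = Set.univ := Set.eq_univ_of_forall hcon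
    rw [e, Nat.card_univ, h.card] at h1
    have := two_le h
    nlinarith
  refine ⟨s / (a0 + star a0) * a0, ?_⟩
  have h2 : star (s / (a0 + star a0)) = s / (a0 + star a0) := by
    rw [star_div₀, hs, star_add, star_star, add_comm (star a0)]
  rw [star_mul', h2]
  field_simp

end Field

section Grp

variable {K : Type u} [Field K] [StarRing K] {p n : ℕ}

theorem finite_UG [Finite K] : Finite (UG K) :=
  Finite.of_injective (fun x : UG K => (x.r, x.u1, x.u2, x.a, x.b, x.c)) (by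
    intro x y h
    simp only [Prod.mk.injEq] at h
    obtain ⟨h1, h2, h3, h4, h5, h6⟩ := h
    exact UG.ext h1 h2 h3 h4 h5 h6)

theorem mem_ZS {g : UG K} : g ∈ ZS K ↔ g.r = 0 ∧ g.u1 = 0 ∧ g.u2 = 0 ∧ g.b = 0 ∧ g.c = 0 := Iff.rfl
theorem mem_VV {g : UG K} : g ∈ VV K ↔ g.r = 0 ∧ g.u1 = 0 ∧ g.u2 = 0 := Iff.rfl
theorem mem_YY {g : UG K} : g ∈ YY K ↔ g.r = 0 ∧ g.u2 = 0 := Iff.rfl
/-- commuting elements of `Q₂` -/
theorem comm_Q2 {x y : UG K} (hx : x.r = 0) (hy : y.r = 0) :
    x * y = y * x ↔ x.u1 * star y.u1 = y.u1 * star x.u1 ∧ x.u1 * star y.u2 = y.u1 * star x.u2 ∧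
      x.u2 * star y.u2 = y.u2 * star x.u2 := by
  constructor
  · intro h
    have ha := congrArg UG.a h
    have hb := congrArg UG.b h
    have hc := congrArg UG.c h
    simp only [UG.mul_a, UG.mul_b, UG.mul_c, hx, hy, star_zero, zero_mul, add_zero, mul_zero] at ha hb hc
    exact ⟨by linear_combination -ha, by linear_combination -hb, by linear_combination -hc⟩
  · rintro ⟨h1, h2, h3⟩
    ext
    · simp only [UG.mul_r, hx, hy]
    · simp only [UG.mul_u1, hx, hy]; ring
    · simp only [UG.mul_u2]; ring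
    · simp only [UG.mul_a, hx, hy, star_zero, zero_mul, add_zero]; linear_combination -h1
    · simp only [UG.mul_b, hx, hy, zero_mul, add_zero]; linear_combination -h2
    · simp only [UG.mul_c]; linear_combination -h3

/-- elements of `Q₂` commuting with `g ∉ Q₂` -/
theorem comm_of_Q2 {x g : UG K} (hx : x.r = 0) (hg : g.r ≠ 0) (h : x * g = g * x) :
    x.u2 = 0 ∧ g.r * x.c = -(x.u1 * star g.u2) ∧
      g.r * x.d + star g.r * x.b + g.r * star g.r * x.c = g.u1 * star x.u1 - x.u1 * star g.u1 := by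
  have hu := congrArg UG.u1 h
  have ha := congrArg UG.a h
  have hb := congrArg UG.b h
  simp only [UG.mul_u1, hx, zero_mul, add_zero] at hu
  have h2 : x.u2 = 0 := by
    have : g.r * x.u2 = 0 := by linear_combination -hu
    exact (mul_eq_zero.1 this).resolve_left hg
  simp only [UG.mul_a, UG.mul_b, hx, h2, star_zero, zero_mul, add_zero, mul_zero, sub_zero] at ha hb
  exact ⟨h2, by linear_combination -hb, by linear_combination -ha⟩

theorem inv_mul_Z2 {x y : UG K} (hx : x ∈ Z2 K) (hy : y ∈ Z2 K) : (x⁻¹ * y).b = y.b - x.b := by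
  obtain ⟨h1, h2, h3, h4⟩ := hx
  simp only [UG.mul_b, UG.inv_b, UG.inv_r, UG.inv_u1, UG.d, h1, h2, h3, h4, star_sub, star_neg, star_star,
    star_zero, mul_zero, zero_mul, sub_zero, neg_zero, add_zero]
  ring

theorem inv_mul_ZS {x y : UG K} (hx : x ∈ ZS K) (hy : y ∈ ZS K) : (x⁻¹ * y).a = y.a - x.a := by
  obtain ⟨h1, h2, h3, h4, h5⟩ := hx
  obtain ⟨k1, k2, k3, k4, k5⟩ := hy
  have h6 := x.ha
  rw [h2, zero_mul, add_zero] at h6
  simp only [UG.mul_a, UG.inv_a, UG.inv_r, UG.inv_u1, UG.d, h1, h2, h3, h4, h5, k1, k2, k3, k4, k5, star_sub,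
    star_neg, star_star, star_zero, mul_zero, zero_mul, sub_zero, neg_zero, add_zero]
  linear_combination h6

theorem card_ZS_le (h : HypK K p n) (X : Subgroup (UG K)) (hX : X ≤ ZS K) : Nat.card X ≤ p ^ n := by
  have := h.fin
  have := finite_UG (K := K)
  have h1 := card_le_of_fiber X (⊥ : Subgroup (UG K)) (fun x => x.a) {x : K | x + star x = 0}
    (fun x hx => by
      have h2 := x.ha
      rw [(hX hx).2.1, zero_mul, add_zero] at h2
      exact h2)
    (fun x hx y hy hxy => by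
      have h3 := mul_mem (_root_.InvMemClass.inv_mem (hX hx)) (hX hy)
      obtain ⟨e1, e2, e3, e4, e5⟩ := mem_ZS.1 h3
      rw [Subgroup.mem_bot]
      ext
      · exact e1
      · exact e2
      · exact e3
      · rw [inv_mul_ZS (hX hx) (hX hy), show x.a = y.a from hxy, sub_self]; rfl
      · exact e4
      · exact e5)
  rw [Subgroup.card_bot, mul_one] at h1
  exact h1.trans (card_ker_le h)

/-- `|C_{Z₂}(g)| ≤ q²` -/
theorem card_Z2C_le (h : HypK K p n) {g : UG K} (hg : g.r ≠ 0) (X : Subgroup (UG K)) (hX : X ≤ Z2 K)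
    (hc : ∀ x ∈ X, x * g = g * x) : Nat.card X ≤ (p ^ n) ^ 2 := by
  have := h.fin
  have := finite_UG (K := K)
  have h1 := card_le_of_fiber X (X ⊓ ZS K) (fun x => x.b) {x : K | star x + (-(star g.r / g.r)) * x = 0}
    (fun x hx => by
      obtain ⟨e1, e2, e3, e4⟩ := hX hx
      have h2 := (comm_of_Q2 e1 hg (hc x hx)).2.2
      rw [UG.d, e2, e3, e4] at h2
      change star x.b + (-(star g.r / g.r)) * x.b = 0
      have h3 : g.r * (star x.b + (-(star g.r / g.r)) * x.b) = 0 := by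
        field_simp
        simp only [star_zero, mul_zero, sub_zero, add_zero, zero_mul] at h2
        linear_combination -h2
      exact (mul_eq_zero.1 h3).resolve_left hg)
    (fun x hx y hy hxy => by
      have h3 := mul_mem (_root_.InvMemClass.inv_mem hx) hy
      obtain ⟨e1, e2, e3, e4⟩ := hX h3
      exact ⟨h3, e1, e2, e3, by rw [inv_mul_Z2 (hX hx) (hX hy), show x.b = y.b from hxy, sub_self], e4⟩)
  have h2 := card_ZS_le h (X ⊓ ZS K) inf_le_right
  have h3 := card_lin h (-(star g.r / g.r))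
  calc Nat.card X ≤ _ := h1
    _ ≤ p ^ n * p ^ n := Nat.mul_le_mul h3 h2
    _ = (p ^ n) ^ 2 := (pow_two _).symm

/-- `|C_V(g)| ≤ q²` -/
theorem card_VC_le (h : HypK K p n) {g : UG K} (hg : g.r ≠ 0) (X : Subgroup (UG K)) (hX : X ≤ VV K)
    (hc : ∀ x ∈ X, x * g = g * x) : Nat.card X ≤ (p ^ n) ^ 2 := by
  refine card_Z2C_le h hg X (fun x hx => ?_) hc
  obtain ⟨e1, e2, e3⟩ := hX hx
  have h2 := (comm_of_Q2 e1 hg (hc x hx)).2.1
  rw [e2, zero_mul, neg_zero] at h2
  exact ⟨e1, e2, e3, (mul_eq_zero.1 h2).resolve_left hg⟩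

/-- `|C_{Q₂}(g)| ≤ q⁴` -/
theorem card_Q2C_le (h : HypK K p n) {g : UG K} (hg : g.r ≠ 0) (X : Subgroup (UG K)) (hX : X ≤ Q2 K)
    (hc : ∀ x ∈ X, x * g = g * x) : Nat.card X ≤ (p ^ n) ^ 4 := by
  have := h.fin
  have := finite_UG (K := K)
  have key : ∀ x ∈ X, x.u1 = 0 → x ∈ Z2 K := by
    intro x hx h1
    obtain ⟨e1, e2, -⟩ := comm_of_Q2 (hX hx) hg (hc x hx)
    rw [h1, zero_mul, neg_zero] at e2
    exact ⟨hX hx, h1, e1, (mul_eq_zero.1 e2).resolve_left hg⟩
  have h1 := card_le_of_fiber X (X ⊓ Z2 K) (fun x => x.u1) (Set.univ : Set K) (fun _ _ => Set.mem_univ _)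
    (fun x hx y hy hxy => by
      have h3 := mul_mem (_root_.InvMemClass.inv_mem hx) hy
      refine ⟨h3, key _ h3 ?_⟩
      have e1 : x.r = 0 := hX hx
      have hxy' : x.u1 = y.u1 := hxy
      simp only [UG.mul_u1, UG.inv_u1, UG.inv_r, e1, hxy']
      ring)
  rw [Nat.card_univ, h.card] at h1
  have h2 := card_Z2C_le h hg (X ⊓ Z2 K) inf_le_right (fun x hx => hc x hx.1)
  calc Nat.card X ≤ _ := h1
    _ ≤ (p ^ n) ^ 2 * (p ^ n) ^ 2 := Nat.mul_le_mul_left _ h2
    _ = (p ^ n) ^ 4 := by ring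

/-- For `x ∈ Q₂ ∖ V` the centralizer of `x` in `Q₂` has at most `q` cosets of `V`. -/
theorem card_Q2Q2 (h : HypK K p n) {g : UG K} (hg : g ∈ Q2 K) (hg' : g ∉ VV K) (X : Subgroup (UG K))
    (hX : X ≤ Q2 K) (hc : ∀ x ∈ X, x * g = g * x) : Nat.card X ≤ p ^ n * Nat.card ↥(X ⊓ VV K) := by
  have := h.fin
  have := finite_UG (K := K)
  have hcom : ∀ x ∈ X, x.u1 * star g.u1 = g.u1 * star x.u1 ∧ x.u1 * star g.u2 = g.u1 * star x.u2 ∧
      x.u2 * star g.u2 = g.u2 * star x.u2 := fun x hx => (comm_Q2 (hX hx) hg).1 (hc x hx)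
  have hcoord : ∀ x ∈ X, ∀ y ∈ X, (x⁻¹ * y).u1 = y.u1 - x.u1 ∧ (x⁻¹ * y).u2 = y.u2 - x.u2 := by
    intro x hx y _
    have e1 : x.r = 0 := hX hx
    constructor
    · simp only [UG.mul_u1, UG.inv_u1, UG.inv_r, e1]; ring
    · simp only [UG.mul_u2, UG.inv_u2]; ring
  by_cases h2 : g.u2 = 0
  · have h1 : g.u1 ≠ 0 := fun h1 => hg' ⟨hg, h1, h2⟩
    have hs1 : star g.u1 ≠ 0 := star_ne_zero.2 h1
    have hx2 : ∀ x ∈ X, x.u2 = 0 := by
      intro x hx
      have h3 := (hcom x hx).2.1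
      rw [h2, star_zero, mul_zero] at h3
      exact star_eq_zero.1 ((mul_eq_zero.1 h3.symm).resolve_left h1)
    have h4 := card_le_of_fiber X (X ⊓ VV K) (fun x => x.u1) {x : K | star x + (-(star g.u1 / g.u1)) * x = 0}
      (fun x hx => by
        have h3 := (hcom x hx).1
        change star x.u1 + (-(star g.u1 / g.u1)) * x.u1 = 0
        have h5 : g.u1 * (star x.u1 + (-(star g.u1 / g.u1)) * x.u1) = 0 := by
          field_simp
          linear_combination -h3
        exact (mul_eq_zero.1 h5).resolve_left h1)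
      (fun x hx y hy hxy => by
        have h3 := mul_mem (_root_.InvMemClass.inv_mem hx) hy
        have hxy' : x.u1 = y.u1 := hxy
        refine ⟨h3, hX h3, ?_, hx2 _ h3⟩
        rw [(hcoord x hx y hy).1, hxy', sub_self])
    exact h4.trans (Nat.mul_le_mul_right _ (card_lin h _))
  · have hs2 : star g.u2 ≠ 0 := star_ne_zero.2 h2
    have h4 := card_le_of_fiber X (X ⊓ VV K) (fun x => x.u2) {x : K | star x + (-(star g.u2 / g.u2)) * x = 0}
      (fun x hx => by
        have h3 := (hcom x hx).2.2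
        change star x.u2 + (-(star g.u2 / g.u2)) * x.u2 = 0
        have h5 : g.u2 * (star x.u2 + (-(star g.u2 / g.u2)) * x.u2) = 0 := by
          field_simp
          linear_combination -h3
        exact (mul_eq_zero.1 h5).resolve_left h2)
      (fun x hx y hy hxy => by
        have h3 := mul_mem (_root_.InvMemClass.inv_mem hx) hy
        have hxy' : x.u2 = y.u2 := hxy
        have e2 : (x⁻¹ * y).u2 = 0 := by rw [(hcoord x hx y hy).2, hxy', sub_self]
        refine ⟨h3, hX h3, ?_, e2⟩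
        have h5 := (hcom _ h3).2.1
        rw [e2, star_zero, mul_zero] at h5
        exact (mul_eq_zero.1 h5).resolve_right hs2)
    exact h4.trans (Nat.mul_le_mul_right _ (card_lin h _))

theorem card_VV_le (h : HypK K p n) (X : Subgroup (UG K)) (hX : X ≤ VV K) : Nat.card X ≤ (p ^ n) ^ 4 := by
  have := h.fin
  let f : X → {x : K | x + star x = 0} × K × {x : K | x + star x = 0} := fun x =>
    (⟨(x : UG K).a, by
      have h1 := (x : UG K).ha
      rw [(hX x.2).2.1, zero_mul, add_zero] at h1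
      exact h1⟩, (x : UG K).b, ⟨(x : UG K).c, by
      have h1 := (x : UG K).hc
      rw [(hX x.2).2.2, zero_mul, add_zero] at h1
      exact h1⟩)
  have hf : Function.Injective f := by
    intro x y hxy
    have h1 : (x : UG K).a = (y : UG K).a := congrArg Subtype.val (congrArg Prod.fst hxy)
    have h2 : (x : UG K).b = (y : UG K).b := congrArg Prod.fst (congrArg Prod.snd hxy)
    have h3 : (x : UG K).c = (y : UG K).c := congrArg Subtype.val (congrArg Prod.snd (congrArg Prod.snd hxy))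
    obtain ⟨a1, a2, a3⟩ := hX x.2
    obtain ⟨b1, b2, b3⟩ := hX y.2
    exact Subtype.ext (UG.ext (a1.trans b1.symm) (a2.trans b2.symm) (a3.trans b3.symm) h1 h2 h3)
  have h1 := Nat.card_le_card_of_injective f hf
  rw [Nat.card_prod, Nat.card_prod, card_ker h, h.card] at h1
  calc Nat.card X ≤ _ := h1
    _ = (p ^ n) ^ 4 := by ring

theorem card_VV_ge (h : HypK K p n) : (p ^ n) ^ 4 ≤ Nat.card (VV K) := by
  have := h.fin
  have := finite_UG (K := K)
  let f : {x : K | x + star x = 0} × K × {x : K | x + star x = 0} → VV K := fun x =>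
    ⟨{ r := 0, u1 := 0, u2 := 0, a := x.1, b := x.2.1, c := x.2.2
       ha := by rw [star_zero, mul_zero, add_zero]; exact x.1.2
       hc := by rw [star_zero, mul_zero, add_zero]; exact x.2.2.2 }, rfl, rfl, rfl⟩
  have hf : Function.Injective f := by
    rintro ⟨⟨x1, h1⟩, x2, ⟨x3, h3⟩⟩ ⟨⟨y1, k1⟩, y2, ⟨y3, k3⟩⟩ hxy
    have e := congrArg Subtype.val hxy
    have e1 : x1 = y1 := congrArg UG.a e
    have e2 : x2 = y2 := congrArg UG.b e
    have e3 : x3 = y3 := congrArg UG.c e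
    subst e1 e2 e3
    rfl
  have h1 := Nat.card_le_card_of_injective f hf
  rw [Nat.card_prod, Nat.card_prod, card_ker h, h.card] at h1
  calc (p ^ n) ^ 4 = p ^ n * ((p ^ n) ^ 2 * p ^ n) := by ring
    _ ≤ Nat.card (VV K) := h1

/-- an element of `Y` with given `u1` -/
theorem exists_YY (h : HypK K p n) (u : K) : ∃ y : UG K, y ∈ YY K ∧ y.u1 = u ∧ y.b = 0 ∧ y.c = 0 := by
  obtain ⟨a, ha⟩ := exists_tr h (-(u * star u)) (by rw [star_neg, star_mul', star_star, mul_comm])
  exact ⟨{ r := 0, u1 := u, u2 := 0, a := a, b := 0, c := 0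
           ha := by rw [ha]; ring
           hc := by simp }, ⟨rfl, rfl⟩, rfl, rfl, rfl⟩

theorem card_YY_ge (h : HypK K p n) : (p ^ n) ^ 6 ≤ Nat.card (YY K) := by
  have := h.fin
  have := finite_UG (K := K)
  choose y hy hy1 _ _ using exists_YY h
  let f : K × VV K → YY K := fun x => ⟨y x.1 * x.2, mul_mem (hy x.1) ⟨x.2.2.1, x.2.2.2.2⟩⟩
  have hf : Function.Injective f := by
    rintro ⟨u, v⟩ ⟨u', v'⟩ hxy
    have e : y u * (v : UG K) = y u' * v' := congrArg Subtype.val hxy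
    have e1 := congrArg UG.u1 e
    rw [UG.mul_u1, UG.mul_u1, v.2.2.2, v'.2.2.2, v.2.2.1, v'.2.2.1, hy1, hy1, mul_zero, mul_zero, add_zero, add_zero,
      add_zero, add_zero] at e1
    subst e1
    have e2 : v = v' := Subtype.ext (mul_left_cancel e)
    rw [e2]
  have h1 := Nat.card_le_card_of_injective f hf
  rw [Nat.card_prod, h.card] at h1
  calc (p ^ n) ^ 6 = (p ^ n) ^ 2 * (p ^ n) ^ 4 := by ring
    _ ≤ (p ^ n) ^ 2 * Nat.card (VV K) := Nat.mul_le_mul_left _ (card_VV_ge h)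
    _ ≤ Nat.card (YY K) := h1

/-- `C_S(Z₂) = Q₂` -/
theorem mem_Q2_of_comm (h : HypK K p n) {g : UG K} (hg : ∀ z ∈ Z2 K, z * g = g * z) : g ∈ Q2 K := by
  by_contra hr
  have hr' : g.r ≠ 0 := hr
  have key : ∀ b : K, star g.r * b = g.r * star b := by
    intro b
    have h1 := hg { r := 0, u1 := 0, u2 := 0, a := 0, b := b, c := 0, ha := by simp, hc := by simp }
      ⟨rfl, rfl, rfl, rfl⟩
    have h2 := (comm_of_Q2 rfl hr' h1).2.2
    simp only [UG.d, star_zero, mul_zero, sub_zero, add_zero] at h2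
    linear_combination h2
  obtain ⟨b, hb⟩ := exists_not_fix h
  have h1 := key 1
  rw [star_one, mul_one, mul_one] at h1
  have h2 := key b
  rw [h1] at h2
  exact hb (mul_left_cancel₀ hr' h2).symm

/-- `Q₂` centralizes `V` -/
theorem comm_V {x v : UG K} (hx : x ∈ Q2 K) (hv : v ∈ VV K) : x * v = v * x := by
  rw [comm_Q2 hx hv.1, hv.2.1, hv.2.2]
  simp only [_root_.star_zero, _root_.MulZeroClass.mul_zero, _root_.MulZeroClass.zero_mul, _root_.and_self]

/-- `Z` is central -/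
theorem comm_ZS {z : UG K} (hz : z ∈ ZS K) (g : UG K) : z * g = g * z := by
  obtain ⟨h1, h2, h3, h4, h5⟩ := hz
  ext
  · simp only [UG.mul_r]; ring
  · simp only [UG.mul_u1, h1, h2, h3]; ring
  · simp only [UG.mul_u2]; ring
  · simp only [UG.mul_a, UG.d, h1, h2, h3, h4, h5, star_zero]; ring
  · simp only [UG.mul_b, h1, h2, h3, h4, h5, star_zero]; ring
  · simp only [UG.mul_c, h3, h5, star_zero]; ring

/-- `C_S(Y) ≤ V` -/
theorem mem_VV_of_comm (h : HypK K p n) {g : UG K} (hg : ∀ z ∈ YY K, z * g = g * z) : g ∈ VV K := by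
  have hr : g.r = 0 := mem_Q2_of_comm h fun z hz => hg z ⟨hz.1, hz.2.2.1⟩
  have key : ∀ u : K, u * star g.u1 = g.u1 * star u ∧ u * star g.u2 = 0 := by
    intro u
    obtain ⟨y, hy, hy1, -, -⟩ := exists_YY h u
    have h1 := (comm_Q2 hy.1 hr).1 (hg y hy)
    rw [hy1, hy.2, star_zero, mul_zero] at h1
    exact ⟨h1.1, h1.2.1⟩
  have h2 : g.u2 = 0 := by
    have h3 := (key 1).2
    rw [one_mul] at h3
    exact star_eq_zero.1 h3
  have h1 : star g.u1 = g.u1 := by
    have h3 := (key 1).1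
    rwa [one_mul, star_one, mul_one] at h3
  obtain ⟨b, hb⟩ := exists_not_fix h
  have h3 := (key b).1
  rw [h1] at h3
  refine ⟨hr, ?_, h2⟩
  by_contra h4
  apply hb
  have h5 : g.u1 * star b = g.u1 * b := by rw [← h3, mul_comm]
  exact mul_left_cancel₀ h4 h5

end Grp

end Cfsg.Agent.H801.PU
end

-- part: H681/PU/Syl
section
prune_inst 0xf0104700750200000000001042003c2230000400000c00108000010205098c00840000200a000400080600000000006002000000400000000a000000000401000000000080080100000006000004000000000000000000000000000000000000000000000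
set_option linter.all false
open scoped Cfsg.Agent.FastGrp

-- part: H681/PU/Mat
section
/-!
# S5258: the matrices of the elements of `UG K` (helper681)
-/

set_option autoImplicit false

namespace Cfsg.Agent.H681.PU

open Matrix Cfsg.Agent.H756.PU

universe u

private theorem mul5 {R : Type*} [CommRing R] (a00 a01 a02 a03 a04 a10 a11 a12 a13 a14 a20 a21 a22 a23 a24 a30 a31 a32 a33 a34 a40 a41 a42 a43 a44 b00 b01 b02 b03 b04 b10 b11 b12 b13 b14 b20 b21 b22 b23 b24 b30 b31 b32 b33 b34 b40 b41 b42 b43 b44 : R) :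
    !![a00, a01, a02, a03, a04; a10, a11, a12, a13, a14; a20, a21, a22, a23, a24; a30, a31, a32, a33, a34; a40, a41, a42, a43, a44] * !![b00, b01, b02, b03, b04; b10, b11, b12, b13, b14; b20, b21, b22, b23, b24; b30, b31, b32, b33, b34; b40, b41, b42, b43, b44] =
    !![a00 * b00 + a01 * b10 + a02 * b20 + a03 * b30 + a04 * b40, a00 * b01 + a01 * b11 + a02 * b21 + a03 * b31 + a04 * b41, a00 * b02 + a01 * b12 + a02 * b22 + a03 * b32 + a04 * b42, a00 * b03 + a01 * b13 + a02 * b23 + a03 * b33 + a04 * b43, a00 * b04 + a01 * b14 + a02 * b24 + a03 * b34 + a04 * b44; a10 * b00 + a11 * b10 + a12 * b20 + a13 * b30 + a14 * b40, a10 * b01 + a11 * b11 + a12 * b21 + a13 * b31 + a14 * b41, a10 * b02 + a11 * b12 + a12 * b22 + a13 * b32 + a14 * b42, a10 * b03 + a11 * b13 + a12 * b23 + a13 * b33 + a14 * b43, a10 * b04 + a11 * b14 + a12 * b24 + a13 * b34 + a14 * b44; a20 * b00 + a21 * b10 + a22 * b20 + a23 * b30 + a24 * b40, a20 * b01 + a21 * b11 + a22 * b21 +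 a23 * b31 + a24 * b41, a20 * b02 + a21 * b12 + a22 * b22 + a23 * b32 + a24 * b42, a20 * b03 + a21 * b13 + a22 * b23 + a23 * b33 + a24 * b43, a20 * b04 + a21 * b14 + a22 * b24 + a23 * b34 + a24 * b44; a30 * b00 + a31 * b10 + a32 * b20 + a33 * b30 + a34 * b40, a30 * b01 + a31 * b11 + a32 * b21 + a33 * b31 + a34 * b41, a30 * b02 + a31 * b12 + a32 * b22 + a33 * b32 + a34 * b42, a30 * b03 + a31 * b13 + a32 * b23 + a33 * b33 + a34 * b43, a30 * b04 + a31 * b14 + a32 * b24 + a33 * b34 + a34 * b44; a40 * b00 + a41 * b10 + a42 * b20 + a43 * b30 + a44 * b40, a40 * b01 + a41 * b11 + a42 * b21 + a43 * b31 + a44 * b41, a40 * b02 + a41 * b12 + a42 * b22 + a43 * b32 + a44 * b42, a40 * b03 + a41 * b13 + a42 * b23 + a43 * b33 + a44 * b43, a40 * b04 + a41 * b14 + a42 * b24 + a43 * b34 + a44 * b44] :=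
  Matrix.ext fun i j => by rw [Matrix.mul_apply, Fin.sum_univ_five]; fin_cases i <;> fin_cases j <;> rfl

private theorem tr5 {R : Type*} (a00 a01 a02 a03 a04 a10 a11 a12 a13 a14 a20 a21 a22 a23 a24 a30 a31 a32 a33 a34 a40 a41 a42 a43 a44 : R) :
    !![a00, a01, a02, a03, a04; a10, a11, a12, a13, a14; a20, a21, a22, a23, a24; a30, a31, a32, a33, a34; a40, a41, a42, a43, a44]ᵀ = !![a00, a10, a20, a30, a40; a01, a11, a21, a31, a41; a02, a12, a22, a32, a42; a03, a13, a23, a33, a43; a04, a14, a24, a34, a44] :=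
  Matrix.ext fun i j => by
    fin_cases i <;> fin_cases j
    exacts [Eq.refl a00, Eq.refl a10, Eq.refl a20, Eq.refl a30, Eq.refl a40, Eq.refl a01, Eq.refl a11, Eq.refl a21, Eq.refl a31, Eq.refl a41, Eq.refl a02, Eq.refl a12, Eq.refl a22, Eq.refl a32, Eq.refl a42, Eq.refl a03, Eq.refl a13, Eq.refl a23, Eq.refl a33, Eq.refl a43, Eq.refl a04, Eq.refl a14, Eq.refl a24, Eq.refl a34, Eq.refl a44]

private theorem map5 {R S : Type*} (f : R → S) (a00 a01 a02 a03 a04 a10 a11 a12 a13 a14 a20 a21 a22 a23 a24 a30 a31 a32 a33 a34 a40 a41 a42 a43 a44 : R) :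
    !![a00, a01, a02, a03, a04; a10, a11, a12, a13, a14; a20, a21, a22, a23, a24; a30, a31, a32, a33, a34; a40, a41, a42, a43, a44].map f = !![f a00, f a01, f a02, f a03, f a04; f a10, f a11, f a12, f a13, f a14; f a20, f a21, f a22, f a23, f a24; f a30, f a31, f a32, f a33, f a34; f a40, f a41, f a42, f a43, f a44] :=
  Matrix.ext fun i j => by fin_cases i <;> fin_cases j <;> rfl

private theorem one5 {R : Type*} [Zero R] [One R] : (1 : Matrix (Fin 5) (Fin 5) R) = !![1, 0, 0, 0, 0; 0, 1, 0, 0, 0; 0, 0, 1, 0, 0; 0, 0, 0, 1, 0; 0, 0, 0, 0, 1] :=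
  Matrix.ext fun i j => by fin_cases i <;> fin_cases j <;> rfl

private theorem ext5 {R : Type*} {a00 a01 a02 a03 a04 a10 a11 a12 a13 a14 a20 a21 a22 a23 a24 a30 a31 a32 a33 a34 a40 a41 a42 a43 a44 b00 b01 b02 b03 b04 b10 b11 b12 b13 b14 b20 b21 b22 b23 b24 b30 b31 b32 b33 b34 b40 b41 b42 b43 b44 : R}
    (h00 : a00 = b00) (h01 : a01 = b01) (h02 : a02 = b02) (h03 : a03 = b03) (h04 : a04 = b04) (h10 : a10 = b10) (h11 : a11 = b11) (h12 : a12 = b12) (h13 : a13 = b13) (h14 : a14 = b14) (h20 : a20 = b20) (h21 : a21 = b21) (h22 : a22 = b22) (h23 : a23 = b23) (h24 : a24 = b24) (h30 : a30 = b30) (h31 : a31 = b31) (h32 : a32 = b32) (h33 : a33 = b33) (h34 : a34 = b34) (h40 : a40 = b40) (h41 : a41 = b41) (h42 : a42 = b42) (h43 : a43 = b43) (h44 : a44 = b44) :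
    !![a00, a01, a02, a03, a04; a10, a11, a12, a13, a14; a20, a21, a22, a23, a24; a30, a31, a32, a33, a34; a40, a41, a42, a43, a44] = !![b00, b01, b02, b03, b04; b10, b11, b12, b13, b14; b20, b21, b22, b23, b24; b30, b31, b32, b33, b34; b40, b41, b42, b43, b44] := by
  rw [h00, h01, h02, h03, h04, h10, h11, h12, h13, h14, h20, h21, h22, h23, h24, h30, h31, h32, h33, h34, h40, h41, h42, h43, h44]

variable (K : Type u) [Field K]

/-- the Gram matrix: `e1, e2, d, f1, f2` with `(ei, fi) = 1`, `(d, d) = 1` -/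
def J5 : Matrix (Fin 5) (Fin 5) K :=
  !![0, 0, 0, 1, 0; 0, 0, 0, 0, 1; 0, 0, 1, 0, 0; 1, 0, 0, 0, 0; 0, 1, 0, 0, 0]

theorem J5_mul_J5 : J5 K * J5 K = 1 := by
  rw [J5, mul5, one5]
  simp only [mul_zero, mul_one, add_zero, zero_add]

theorem J5_map (σ : K →+* K) : (J5 K).map σ = J5 K := by
  rw [J5, map5, map_zero, map_one]

variable {K}
variable [StarRing K]

/-- the matrix of an element of `UG K` -/
def umat (x : UG K) : Matrix (Fin 5) (Fin 5) K :=
  !![1, x.r, x.u1, x.a - x.b * star x.r, x.b;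
     0, 1, x.u2, x.d - x.c * star x.r, x.c;
     0, 0, 1, -(star x.u1 - star x.u2 * star x.r), -star x.u2;
     0, 0, 0, 1, 0;
     0, 0, 0, -star x.r, 1]

theorem det_umat (x : UG K) : (umat x).det = 1 := by
  simp only [umat, Matrix.det_succ_column_zero, Fin.sum_univ_succ, Fin.succAbove, _root_.neg_sub, _root_.Nat.succ_eq_add_one, _root_.Nat.reduceAdd, _root_.Fin.isValue, _root_.Matrix.of_apply, _root_.Matrix.cons_val', _root_.Matrix.cons_val_zero, _root_.Matrix.cons_val_fin_one, _root_.Matrix.submatrix_apply, _root_.Fin.succ_zero_eq_one, _root_.Matrix.cons_val_one, _root_.Matrix.submatrix_submatrix, _root_.Function.comp_apply, _root_.Fin.succ_one_eq_two, _root_.Matrix.cons_val, _root_.Fin.reduceSucc, _root_.Matrix.det_unique, _root_.Fin.default_eq_zero, _root_.Fin.castSucc_zero, _root_.Fin.coe_ofNat_eq_mod, _root_.Nat.zero_mod, _root_.pow_zero, _root_.one_mul, _root_.lt_self_iff_false, ↓ _root_.reduceIte, _root_.Fin.castSucc_one, _root_.Finset.univ_unique,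 _root_.Fin.val_succ, _root_.Fin.val_eq_zero, _root_.zero_add, _root_.pow_one, _root_.Fin.castSucc_succ, _root_.neg_mul, _root_.Fin.succ_pos, _root_.Finset.sum_neg_distrib, _root_.Finset.sum_singleton, _root_.not_lt_zero, _root_.Fin.reduceCastSucc, _root_.even_two, _root_.Even.neg_pow, _root_.one_pow, _root_.Fin.reduceLT, _root_.Fin.lt_one_iff, _root_.Fin.reduceEq, _root_.mul_one, _root_.MulZeroClass.mul_zero, _root_.neg_zero, _root_.add_zero, _root_.mul_neg, _root_.neg_neg, _root_.MulZeroClass.zero_mul, _root_.neg_add_rev, _root_.Matrix.cons_val_succ, _root_.Finset.sum_const_zero]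

set_option maxHeartbeats 4000000 in
theorem umat_mul (x y : UG K) : umat x * umat y = umat (x * y) := by
  have h2 := y.hc
  rw [umat, umat, umat, mul5]
  simp only [UG.mul_a, UG.mul_b, UG.d, UG.mul_r, UG.mul_u1, UG.mul_u2, UG.mul_c, star_add, star_sub, star_star, star_mul', mul_zero, zero_mul,
    mul_one, one_mul, add_zero, zero_add]
  refine ext5 ?_ ?_ ?_ ?_ ?_ ?_ ?_ ?_ ?_ ?_ ?_ ?_ ?_ ?_ ?_ ?_ ?_ ?_ ?_ ?_ ?_ ?_ ?_ ?_ ?_
  map_tacs [rfl; ring1; ring1; ring1; ring1; rfl; rfl; ring1; linear_combination (star x.r) * h2; ring1; rfl; rfl; rfl; ring1; ring1; rfl; rfl; rfl; rfl; rfl; rfl;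
   rfl; rfl; ring1; rfl]

set_option maxHeartbeats 4000000 in
theorem umat_mem (x : UG K) : (umat x)ᵀ * J5 K * (umat x).map (starRingEnd K) = J5 K := by
  have h1 := x.ha
  have h2 := x.hc
  rw [umat, J5, tr5, map5, mul5, mul5]
  simp only [UG.d, starRingEnd_apply, star_star, star_add, star_sub, star_neg, star_mul', star_zero, star_one, mul_zero,
    zero_mul, mul_one, one_mul, add_zero, zero_add]
  refine ext5 ?_ ?_ ?_ ?_ ?_ ?_ ?_ ?_ ?_ ?_ ?_ ?_ ?_ ?_ ?_ ?_ ?_ ?_ ?_ ?_ ?_ ?_ ?_ ?_ ?_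
  map_tacs [rfl; rfl; rfl; rfl; rfl; rfl; rfl; rfl; ring1; rfl; rfl; rfl; rfl; ring1; ring1; rfl; ring1; ring1; linear_combination h1 + x.r * star x.r * h2;
   linear_combination (-star x.r) * h2; rfl; rfl; ring1; linear_combination (-x.r) * h2; linear_combination h2]

theorem umat_inj {x y : UG K} (h : umat x = umat y) : x = y := by
  have h01 := congrFun (congrFun h 0) 1
  have h02 := congrFun (congrFun h 0) 2
  have h03 := congrFun (congrFun h 0) 3
  have h04 := congrFun (congrFun h 0) 4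
  have h12 := congrFun (congrFun h 1) 2
  have h14 := congrFun (congrFun h 1) 4
  change x.r = y.r at h01
  change x.u1 = y.u1 at h02
  change x.a - x.b * star x.r = y.a - y.b * star y.r at h03
  change x.b = y.b at h04
  change x.u2 = y.u2 at h12
  change x.c = y.c at h14
  rw [h01, h04, sub_left_inj] at h03
  exact UG.ext h01 h02 h12 h03 h04 h14

theorem umat_one : umat (1 : UG K) = 1 := by
  rw [umat, one5]
  simp only [UG.d, UG.one_r, UG.one_u1, UG.one_u2, UG.one_a, UG.one_b, UG.one_c, star_zero, mul_zero, sub_zero, neg_zero]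

/-- A matrix taking the standard form to the form of `J5`. -/
theorem exists_T {σ : K →+* K} (hσ : ∀ x, σ (σ x) = x) {ν c : K} (hν : ν * σ ν = -1) (hc : σ c ≠ c) :
    ∃ T T' : Matrix (Fin 5) (Fin 5) K, T * T' = 1 ∧ Tᵀ * T.map σ = J5 K := by
  have hc0 : c ≠ 0 := by rintro rfl; exact hc (map_zero σ)
  have hσc0 : σ c ≠ 0 := (map_ne_zero σ).mpr hc0
  have hν0 : ν ≠ 0 := by
    rintro rfl
    rw [zero_mul] at hν
    exact one_ne_zero (neg_eq_zero.1 hν.symm)
  obtain ⟨w, hw, hw1⟩ : ∃ w : K, w * σ w = 1 ∧ 1 - w ≠ 0 := by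
    refine ⟨c / σ c, ?_, ?_⟩
    · rw [map_div₀, hσ]; field_simp
    · intro h
      apply hc
      have h2 : c / σ c = 1 := (sub_eq_zero.1 h).symm
      rw [div_eq_one_iff_eq hσc0] at h2
      exact h2.symm
  set! a := (1 - w)⁻¹ with ha
  have haw : a - w * a = 1 := by
    rw [ha]; field_simp
  have haw' : σ a - σ w * σ a = 1 := by
    rw [← map_mul, ← map_sub, haw, map_one]
  let T : Matrix (Fin 5) (Fin 5) K :=
    !![1, 0, 0, a, 0; ν, 0, 0, ν * w * a, 0; 0, 1, 0, 0, a; 0, ν, 0, 0, ν * w * a; 0, 0, 1, 0, 0]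
  have hT : Tᵀ * T.map σ = J5 K := by
    simp only [T]
    rw [J5, tr5, map5, mul5]
    simp only [map_zero, map_one, map_mul, mul_zero, zero_mul, mul_one, one_mul, add_zero, zero_add]
    refine ext5 ?_ ?_ ?_ ?_ ?_ ?_ ?_ ?_ ?_ ?_ ?_ ?_ ?_ ?_ ?_ ?_ ?_ ?_ ?_ ?_ ?_ ?_ ?_ ?_ ?_
    map_tacs [linear_combination hν; rfl; rfl; linear_combination haw' + (σ w * σ a) * hν; rfl; rfl; linear_combination hν; rfl; rfl;
     linear_combination haw' + (σ w * σ a) * hν; rfl; rfl; rfl; rfl; rfl; linear_combination haw + (w * a) * hν; rfl; rfl;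
     linear_combination (a * σ a * w * σ w) * hν - a * σ a * hw; rfl; rfl; linear_combination haw + (w * a) * hν; rfl; rfl;
     linear_combination (a * σ a * w * σ w) * hν - a * σ a * hw]
  refine ⟨T, J5 K * (T.map σ)ᵀ, ?_, hT⟩
  have h1 : (J5 K * Tᵀ) * T.map σ = 1 := by
    rw [Matrix.mul_assoc, hT, J5_mul_J5]
  have h2 := congrArg (fun M : Matrix (Fin 5) (Fin 5) K => M.map σ) h1
  have h3 : (T.map σ).map σ = T := by
    ext i j
    rw [Matrix.map_apply, Matrix.map_apply, hσ]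
  simp only [Matrix.map_mul, h3, J5_map, Matrix.map_one σ (map_zero σ) (map_one σ)] at h2
  exact mul_eq_one_comm.mp h2

end Cfsg.Agent.H681.PU
end

-- part: H681/PU/Syl
section
/-!
# S5258: (PU-SYL) the Sylow `p`-subgroups of `PSU₅(pⁿ)` are isomorphic to `UG K` (helper681)
-/

set_option autoImplicit false

namespace Cfsg.Agent.H681.PU

open Matrix Cfsg.Agent.H756.PU Cfsg.Agent.LieClassical.HermBasic

universe u

/-- Membership in `SU n F q` as a matrix equation. -/
theorem mem_SU_iff' {F : Type*} [Field F] {n : ℕ} {σ : F →+* F} {q : ℕ} (hs : ∀ x, σ x = x ^ q)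
    (g : _root_.Matrix.SpecialLinearGroup (Fin n) F) :
    g ∈ Cfsg.SU n F q ↔
      (g : Matrix (Fin n) (Fin n) F)ᵀ * (g : Matrix (Fin n) (Fin n) F).map σ = 1 := by
  have hform : ∀ u v : Fin n → F, Cfsg.hermForm n F q u v = u ⬝ᵥ (fun i => σ (v i)) := by
    intro u v
    simp only [Cfsg.hermForm, dotProduct, hs]
  have hmv : ∀ v : Fin n → F, (fun i => σ (((g : Matrix (Fin n) (Fin n) F) *ᵥ v) i)) =
      (g : Matrix (Fin n) (Fin n) F).map σ *ᵥ (fun i => σ (v i)) := by
    intro v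
    funext i
    simp only [Matrix.mulVec, dotProduct, map_sum, map_mul, _root_.Matrix.map_apply]
  have key : ∀ u v : Fin n → F, Cfsg.hermForm n F q ((g : Matrix (Fin n) (Fin n) F) *ᵥ u)
      ((g : Matrix (Fin n) (Fin n) F) *ᵥ v) = u ⬝ᵥ (((g : Matrix (Fin n) (Fin n) F)ᵀ *
        (g : Matrix (Fin n) (Fin n) F).map σ) *ᵥ (fun i => σ (v i))) := by
    intro u v
    rw [hform, hmv, ← Matrix.mulVec_mulVec, Matrix.dotProduct_mulVec u, Matrix.vecMul_transpose]
  constructor
  · intro h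
    ext i j
    have h1 := h (Pi.single i 1) (Pi.single j 1)
    change Cfsg.hermForm n F q ((g : Matrix (Fin n) (Fin n) F) *ᵥ _)
      ((g : Matrix (Fin n) (Fin n) F) *ᵥ _) = _ at h1
    rw [key, hform] at h1
    have h2 : (fun k => σ ((Pi.single j 1 : Fin n → F) k)) = Pi.single j 1 := by
      funext k
      by_cases hk : k = j
      · subst hk; simp
      · simp [hk]
    rw [h2] at h1
    simpa only [Matrix.one_apply, Pi.single_apply, eq_comm, _root_.Matrix.mulVec_single, _root_.MulOpposite.op_one, _root_.one_smul, _root_.single_dotProduct, _root_.Matrix.col_apply, _root_.one_mul, _root_.dotProduct_single, _root_.mul_one] using h1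
  · intro h u v
    change Cfsg.hermForm n F q ((g : Matrix (Fin n) (Fin n) F) *ᵥ _)
      ((g : Matrix (Fin n) (Fin n) F) *ᵥ _) = _
    rw [key, hform, h, Matrix.one_mulVec]

section
variable {K : Type u} [Field K] [StarRing K]

/-- the homomorphism from the change of basis -/
theorem exists_hom {p n : ℕ} (h : HypK K p n) :
    ∃ φ : UG K →* Cfsg.SU 5 K (p ^ n), Function.Injective φ := by
  haveI : Fintype K := @Fintype.ofFinite K h.fin
  have hF : Fintype.card K = (p ^ n) ^ 2 := by rw [← Nat.card_eq_fintype_card, h.card]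
  have hs : ∀ x : K, starRingEnd K x = x ^ (p ^ n) := fun x => by rw [starRingEnd_apply, h.star_eq]
  obtain ⟨ν, hν⟩ := _root_.Cfsg.Agent.LieClassical.HermBasic.exists_norm_eq hF (c := (-1 : K)) (by rw [neg_pow_q hF, one_pow])
  obtain ⟨c, hc⟩ := exists_not_fixed hF
  obtain ⟨T, T', hT, hJ⟩ := exists_T (σ := starRingEnd K) (fun x => by
    rw [starRingEnd_apply, starRingEnd_apply, star_star]) (ν := ν) (c := c) (by rw [hs, hν]) (by rw [hs]; exact hc)
  have hT' : T' * T = 1 := mul_eq_one_comm.mp hT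
  have hdet : ∀ x : UG K, (T * umat x * T').det = 1 := by
    intro x
    rw [Matrix.det_mul, Matrix.det_mul, det_umat, mul_one, ← Matrix.det_mul, hT, Matrix.det_one]
  have hmem : ∀ x : UG K, (⟨T * umat x * T', hdet x⟩ : _root_.Matrix.SpecialLinearGroup (Fin 5) K) ∈ Cfsg.SU 5 K (p ^ n) := by
    intro x
    refine (mem_SU_iff' hs _).2 ?_
    change (T * umat x * T')ᵀ * (T * umat x * T').map (starRingEnd K) = 1
    simp only [Matrix.transpose_mul, Matrix.map_mul]
    calc T'ᵀ * ((umat x)ᵀ * Tᵀ) * (T.map (starRingEnd K) * (umat x).map (starRingEnd K) *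
          T'.map (starRingEnd K))
        = T'ᵀ * ((umat x)ᵀ * (Tᵀ * T.map (starRingEnd K)) * (umat x).map (starRingEnd K)) *
          T'.map (starRingEnd K) := by simp only [Matrix.mul_assoc]
      _ = T'ᵀ * (Tᵀ * T.map (starRingEnd K)) * T'.map (starRingEnd K) := by rw [hJ, umat_mem]
      _ = (T * T')ᵀ * (T * T').map (starRingEnd K) := by
          simp only [Matrix.transpose_mul, Matrix.map_mul, Matrix.mul_assoc]
      _ = 1 := by rw [hT, Matrix.transpose_one, Matrix.one_mul,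
          Matrix.map_one _ (map_zero _) (map_one _)]
  let φ : UG K →* Cfsg.SU 5 K (p ^ n) :=
    { toFun := fun x => ⟨⟨T * umat x * T', hdet x⟩, hmem x⟩
      map_one' := by
        apply Subtype.ext
        apply Subtype.ext
        change T * umat 1 * T' = 1
        rw [umat_one, Matrix.mul_one, hT]
      map_mul' := by
        intro x y
        apply Subtype.ext
        apply Subtype.ext
        change T * umat (x * y) * T' = (T * umat x * T') * (T * umat y * T')
        calc T * umat (x * y) * T' = T * umat x * 1 * umat y * T' := by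
              rw [← umat_mul, Matrix.mul_one]; simp only [Matrix.mul_assoc]
          _ = (T * umat x * T') * (T * umat y * T') := by rw [← hT']; simp only [Matrix.mul_assoc] }
  refine ⟨φ, fun x y hxy => ?_⟩
  have h1 : T * umat x * T' = T * umat y * T' := congrArg (fun g : Cfsg.SU 5 K (p ^ n) => g.1.1) hxy
  apply umat_inj
  calc umat x = (T' * T) * umat x * (T' * T) := by rw [hT', Matrix.one_mul, Matrix.mul_one]
    _ = T' * (T * umat x * T') * T := by simp only [Matrix.mul_assoc]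
    _ = T' * (T * umat y * T') * T := by rw [h1]
    _ = (T' * T) * umat y * (T' * T) := by simp only [Matrix.mul_assoc]
    _ = umat y := by rw [hT', Matrix.one_mul, Matrix.mul_one]

theorem prod_eq (q : ℕ) : ∏ i ∈ Finset.range 5, (if Even i then q ^ (i + 1) + 1 else q ^ (i + 1) - 1) =
    (q + 1) * (q ^ 2 - 1) * (q ^ 3 + 1) * (q ^ 4 - 1) * (q ^ 5 + 1) := by
  have e0 : Even 0 := by decide
  have e1 : ¬ Even 1 := by decide
  have e2 : Even 2 := by decide
  have e3 : ¬ Even 3 := by decide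
  have e4 : Even 4 := by decide
  simp only [Finset.prod_range_succ, Finset.prod_range_zero, if_pos e0, if_neg e1, if_pos e2, if_neg e3, if_pos e4]
  norm_num only [_root_.pow_one, _root_.one_mul]

theorem card_center {F : Type u} [Field F] [Fintype F] {q : ℕ} (hF : Fintype.card F = q ^ 2) :
    Nat.card (Subgroup.center (Cfsg.SU 5 F q)) = Nat.gcd 5 (q + 1) := by
  classical
  have h1 := Cfsg.Agent.S0278.result hF 5 (by norm_num)
  have h2 := Cfsg.Agent.S0280.result hF 5 (by norm_num)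
  have h3 : Nat.card (Cfsg.SU 5 F q) = Nat.card (Cfsg.PSU 5 F q) * Nat.card (Subgroup.center (Cfsg.SU 5 F q)) :=
    Subgroup.card_eq_card_quotient_mul_card_subgroup _
  have hpos : 0 < Nat.card (Cfsg.PSU 5 F q) := Nat.card_pos
  have h4 : (q + 1) * Nat.card (Cfsg.PSU 5 F q) * Nat.card (Subgroup.center (Cfsg.SU 5 F q)) =
      (q + 1) * Nat.card (Cfsg.PSU 5 F q) * Nat.gcd 5 (q + 1) := by
    rw [← h2, h3] at h1
    linarith only [h1]
  exact Nat.eq_of_mul_eq_mul_left (by (clear * - hpos; positivity)) h4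

/-- the embedding in `PSU` -/
theorem exists_hom_psu {p n : ℕ} (h : HypK K p n) :
    ∃ φ : UG K →* Cfsg.PSU 5 K (p ^ n), Function.Injective φ := by
  haveI : Fintype K := @Fintype.ofFinite K h.fin
  have hF : Fintype.card K = (p ^ n) ^ 2 := by rw [← Nat.card_eq_fintype_card, h.card]
  obtain ⟨φ, hφ⟩ := exists_hom h
  refine ⟨(QuotientGroup.mk' (Subgroup.center (Cfsg.SU 5 K (p ^ n)))).comp φ, ?_⟩
  rw [injective_iff_map_eq_one]
  intro x hx
  have hx1 : φ x ∈ Subgroup.center (Cfsg.SU 5 K (p ^ n)) := (QuotientGroup.eq_one_iff _).1 hx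
  obtain ⟨k, hk⟩ := isPGroup_UG h x
  have h1 : orderOf (φ x) ∣ p ^ k := orderOf_dvd_of_pow_eq_one (by rw [← map_pow, hk, map_one])
  have h2 : orderOf (φ x) ∣ p ^ n + 1 := by
    refine dvd_trans ?_ (Nat.gcd_dvd_right 5 (p ^ n + 1))
    rw [← card_center hF, ← Subgroup.orderOf_mk (φ x) hx1]
    exact orderOf_dvd_natCard _
  have h3 : Nat.Coprime (p ^ k) (p ^ n + 1) := by
    apply Nat.Coprime.pow_left
    rw [Nat.Prime.coprime_iff_not_dvd h.pp]
    intro hd
    have h4 : p ∣ 1 := (Nat.dvd_add_right (dvd_pow_self p (by have := h.hn; omega))).1 hd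
    exact h.pp.one_lt.ne' (Nat.dvd_one.1 h4)
  have h5 : orderOf (φ x) = 1 := Nat.eq_one_of_dvd_coprimes h3 h1 h2
  rw [orderOf_eq_one_iff] at h5
  exact hφ (h5.trans (map_one φ).symm)

theorem arith {p q m : ℕ} (hp : p.Prime) (hpq : p ∣ q) (hq0 : 0 < q)
    (h2 : Nat.gcd 5 (q + 1) * ((q + 1) * (q ^ 10 * m)) =
      q ^ (5 * (5 - 1) / 2) * ((q + 1) * (q ^ 2 - 1) * (q ^ 3 + 1) * (q ^ 4 - 1) * (q ^ 5 + 1))) : ¬ p ∣ m := by
  intro hd
  have h4 : q ^ 10 * (Nat.gcd 5 (q + 1) * (q + 1) * m) =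
      q ^ 10 * ((q + 1) * (q ^ 2 - 1) * (q ^ 3 + 1) * (q ^ 4 - 1) * (q ^ 5 + 1)) := by
    have h3 : q ^ (5 * (5 - 1) / 2) = q ^ 10 := rfl
    rw [← h3, ← h2, h3]; ring
  have h5 := Nat.eq_of_mul_eq_mul_left (by positivity) h4
  have h6 : p ∣ (q + 1) * (q ^ 2 - 1) * (q ^ 3 + 1) * (q ^ 4 - 1) * (q ^ 5 + 1) := by
    rw [← h5]; exact dvd_mul_of_dvd_right hd _
  have ha : ∀ j, 0 < j → ¬ p ∣ q ^ j + 1 := by
    intro j hj hd'
    have : p ∣ 1 := (Nat.dvd_add_right (dvd_pow hpq hj.ne')).1 hd'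
    exact hp.one_lt.ne' (Nat.dvd_one.1 this)
  have hb : ∀ j, 0 < j → ¬ p ∣ q ^ j - 1 := by
    intro j hj hd'
    have h7 : q ^ j = q ^ j - 1 + 1 := (Nat.sub_add_cancel (Nat.one_le_pow _ _ hq0)).symm
    have h8 : p ∣ q ^ j - 1 + 1 := by rw [← h7]; exact dvd_pow hpq hj.ne'
    have : p ∣ 1 := (Nat.dvd_add_right hd').1 h8
    exact hp.one_lt.ne' (Nat.dvd_one.1 this)
  rw [hp.dvd_mul, hp.dvd_mul, hp.dvd_mul, hp.dvd_mul] at h6
  have ha1 := ha 1 one_pos
  rw [pow_one] at ha1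
  rcases h6 with (((h6 | h6) | h6) | h6) | h6
  · exact ha1 h6
  · exact hb 2 (by norm_num) h6
  · exact ha 3 (by norm_num) h6
  · exact hb 4 (by norm_num) h6
  · exact ha 5 (by norm_num) h6

/-- (PU-SYL) -/
theorem stSyl : StSyl.{u} := by
  intro K _ _ p n _ h T
  haveI : Fintype K := @Fintype.ofFinite K h.fin
  have hF : Fintype.card K = (p ^ n) ^ 2 := by rw [← Nat.card_eq_fintype_card, h.card]
  classical
  obtain ⟨φ, hφ⟩ := exists_hom_psu h
  have hp := h.pp
  have hn := h.hn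
  have hPp : IsPGroup p φ.range := (isPGroup_UG h).of_equiv (MonoidHom.ofInjective hφ)
  have hcard : Nat.card φ.range = (p ^ n) ^ 10 := by
    rw [← card_UG h]; exact (Nat.card_congr (MonoidHom.ofInjective hφ).toEquiv).symm
  have hidx : ¬ p ∣ φ.range.index := by
    have h2 := Cfsg.Agent.S0280.result hF 5 (by norm_num)
    rw [prod_eq] at h2
    have h3 := φ.range.card_mul_index
    rw [hcard] at h3
    rw [← h3] at h2
    exact arith hp (dvd_pow_self p (by omega)) (pow_pos hp.pos n) h2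
  let P : Sylow p (Cfsg.PSU 5 K (p ^ n)) := hPp.toSylow hidx
  exact ⟨(Sylow.equiv T P).trans (MonoidHom.ofInjective hφ).symm⟩

end

end Cfsg.Agent.H681.PU
end

private theorem dce_0b4570eff0fd : _root_.True := by
  try have : _root_.True := by simp only [_root_.Cfsg.hermForm.eq_1]
  try have : _root_.True := by simp only [_root_.Cfsg.Agent.H681.PU.J5.eq_1]
  try have : _root_.True := by simp only [_root_.Cfsg.Agent.H681.PU.umat.eq_1]
  exact _root_.True.intro
end
end
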